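import Groth.Agent.CSA.SepCenter
import Groth.Agent.CSA.Brauer
import Mathlib.Algebra.Azumaya.Basic
import Mathlib.Algebra.Azumaya.Matrix
import Mathlib.LinearAlgebra.Matrix.ToLin
import Mathlib.Algebra.Module.FinitePresentation
import Mathlib.RingTheory.Flat.FaithfullyFlat.Algebra
import Mathlib.RingTheory.Flat.FaithfullyFlat.Descent
import Mathlib.RingTheory.Flat.EquationalCriterion
import Mathlib.RingTheory.Finiteness.Descent
import Mathlib.RingTheory.Nakayama

/-!
Azumaya algebras: base change, fibrewise criterion, descent.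
-/

set_option autoImplicit false

universe u v w x

open scoped TensorProduct

namespace Groth.Agent.Azu

open LinearMap (lTensor)

variable {R : Type u} [CommRing R]

section EndBaseChange

variable (S : Type w) [CommRing S] [Algebra R S] (P : Type v) [AddCommGroup P] [Module R P]

/-- `S ⊗ End P → End (S ⊗ P)`. -/
noncomputable def endBC : S ⊗[R] Module.End R P →ₗ[S] Module.End S (S ⊗[R] P) :=
  LinearMap.tensorProduct R S P P

theorem endBC_tmul (s : S) (f : Module.End R P) : endBC S P (s ⊗ₜ f) = s • f.baseChange S := by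
  simp [endBC, LinearMap.tensorProduct]

theorem exists_retract [Module.Finite R P] [Module.Projective R P] :
    ∃ (n : ℕ) (i : P →ₗ[R] (Fin n → R)) (π : (Fin n → R) →ₗ[R] P), π ∘ₗ i = LinearMap.id := by
  obtain ⟨n, f, hf⟩ := Module.Finite.exists_fin' R P
  obtain ⟨g, hg⟩ := Module.projective_lifting_property f LinearMap.id hf
  exact ⟨n, g, f, hg⟩

theorem endBC_bijective [Module.Finite R P] [Module.Projective R P] : Function.Bijective (endBC (R := R) S P) := by
  classical
  obtain ⟨n, i, π, hπi⟩ := exists_retract (R := R) P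
  set F := Fin n → R
  have hF : Function.Bijective (endBC (R := R) S F) := by
    have h : IsBaseChange S (LinearMap.baseChangeHom R S F F) := Module.isBaseChange_map_of_finite_free F S _
    have he : endBC (R := R) S F = h.equiv.toLinearMap := by
      refine TensorProduct.AlgebraTensorModule.ext fun s f => ?_
      rw [endBC_tmul, LinearEquiv.coe_coe, IsBaseChange.equiv_tmul]
      rfl
    rw [he]
    exact h.equiv.bijective
  let up : Module.End R P →ₗ[R] Module.End R F :=
    { toFun := fun f => i ∘ₗ f ∘ₗ π
      map_add' := fun f g => by rw [LinearMap.add_comp, LinearMap.comp_add]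
      map_smul' := fun c f => by rw [LinearMap.smul_comp, LinearMap.comp_smul]; rfl }
  let down : Module.End R F →ₗ[R] Module.End R P :=
    { toFun := fun f => π ∘ₗ f ∘ₗ i
      map_add' := fun f g => by rw [LinearMap.add_comp, LinearMap.comp_add]
      map_smul' := fun c f => by rw [LinearMap.smul_comp, LinearMap.comp_smul]; rfl }
  have hπi' : ∀ x, π (i x) = x := fun x => LinearMap.congr_fun hπi x
  have hdu : down ∘ₗ up = LinearMap.id := LinearMap.ext fun f => LinearMap.ext fun x => by simp [down, up, hπi']
  let up' : Module.End S (S ⊗[R] P) → Module.End S (S ⊗[R] F) := fun f => i.baseChange S ∘ₗ f ∘ₗ π.baseChange S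
  let down' : Module.End S (S ⊗[R] F) → Module.End S (S ⊗[R] P) := fun f => π.baseChange S ∘ₗ f ∘ₗ i.baseChange S
  have hdu' : ∀ f, down' (up' f) = f := fun f => LinearMap.ext fun x => by
    have h : ∀ y, π.baseChange S (i.baseChange S y) = y := fun y => by
      rw [← LinearMap.comp_apply, ← LinearMap.baseChange_comp, hπi, LinearMap.baseChange_id, LinearMap.id_apply]
    simp [down', up', h]
  have hup : ∀ z, endBC S F (up.baseChange S z) = up' (endBC S P z) := fun z => by
    induction z using TensorProduct.induction_on with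
    | zero => simp [up', LinearMap.comp_zero, LinearMap.zero_comp]
    | add a b ha hb => simp [up', map_add, LinearMap.comp_add, LinearMap.add_comp] at ha hb ⊢; rw [ha, hb]
    | tmul s f =>
        simp [up', up, endBC_tmul, LinearMap.baseChange_comp, LinearMap.comp_smul, LinearMap.smul_comp]
  have hdown : ∀ z, endBC S P (down.baseChange S z) = down' (endBC S F z) := fun z => by
    induction z using TensorProduct.induction_on with
    | zero => simp [down', LinearMap.comp_zero, LinearMap.zero_comp]
    | add a b ha hb => simp [down', map_add, LinearMap.comp_add, LinearMap.add_comp] at ha hb ⊢; rw [ha, hb]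
    | tmul s f =>
        simp [down', down, endBC_tmul, LinearMap.baseChange_comp, LinearMap.comp_smul, LinearMap.smul_comp]
  constructor
  · intro a b hab
    have h := congrArg (down.baseChange S) (hF.1 ((hup a).trans ((congrArg up' hab).trans (hup b).symm)))
    simpa [← LinearMap.comp_apply, ← LinearMap.baseChange_comp, hdu] using h
  · intro f
    obtain ⟨z, hz⟩ := hF.2 (up' f)
    exact ⟨down.baseChange S z, by rw [hdown, hz, hdu']⟩

/-- `S ⊗ End P ≅ End (S ⊗ P)`. -/
noncomputable def endBCEquiv [Module.Finite R P] [Module.Projective R P] :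
    S ⊗[R] Module.End R P ≃ₐ[S] Module.End S (S ⊗[R] P) :=
  AlgEquiv.ofBijective (LinearMap.tensorProductEnd R S P) (endBC_bijective S P)

theorem projective_end [Module.Finite R P] [Module.Projective R P] :
    Module.Projective R (Module.End R P) ∧ Module.Finite R (Module.End R P) := by
  obtain ⟨n, i, π, hπi⟩ := exists_retract (R := R) P
  have hπi' : ∀ x, π (i x) = x := fun x => LinearMap.congr_fun hπi x
  let up : Module.End R P →ₗ[R] Module.End R (Fin n → R) :=
    { toFun := fun f => i ∘ₗ f ∘ₗ π
      map_add' := fun f g => by rw [LinearMap.add_comp, LinearMap.comp_add]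
      map_smul' := fun c f => by rw [LinearMap.smul_comp, LinearMap.comp_smul]; rfl }
  let down : Module.End R (Fin n → R) →ₗ[R] Module.End R P :=
    { toFun := fun f => π ∘ₗ f ∘ₗ i
      map_add' := fun f g => by rw [LinearMap.add_comp, LinearMap.comp_add]
      map_smul' := fun c f => by rw [LinearMap.smul_comp, LinearMap.comp_smul]; rfl }
  have hdu : down ∘ₗ up = LinearMap.id := LinearMap.ext fun f => LinearMap.ext fun x => by simp [down, up, hπi']
  exact ⟨Module.Projective.of_split up down hdu,
    Module.Finite.of_surjective down (fun f => ⟨up f, LinearMap.congr_fun hdu f⟩)⟩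

end EndBaseChange

section Compat

variable (S : Type w) [CommRing S] [Algebra R S] (A : Type v) [Ring A] [Algebra R A]

/-- `S ⊗ (A ⊗ Aᵒᵖ) ≅ (S ⊗ A) ⊗ (S ⊗ A)ᵒᵖ`. -/
noncomputable def envBC : S ⊗[R] (A ⊗[R] Aᵐᵒᵖ) ≃ₗ[S] (S ⊗[R] A) ⊗[S] (S ⊗[R] A)ᵐᵒᵖ :=
  TensorProduct.AlgebraTensorModule.distribBaseChange R S A Aᵐᵒᵖ ≪≫ₗ
    TensorProduct.congr (LinearEquiv.refl S _)
      (((MulOpposite.opLinearEquiv R).symm.baseChange R S) ≪≫ₗ MulOpposite.opLinearEquiv S)

theorem endBC_lTensor_eq (z : S ⊗[R] (A ⊗[R] Aᵐᵒᵖ)) :
    endBC S A ((AlgHom.mulLeftRight R A).toLinearMap.baseChange S z) =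
      AlgHom.mulLeftRight S (S ⊗[R] A) (envBC S A z) := by
  induction z using TensorProduct.induction_on with
  | zero => simp
  | add a b ha hb => simp only [map_add, ha, hb]
  | tmul s t =>
      induction t using TensorProduct.induction_on with
      | zero => simp
      | add a b ha hb => simp only [TensorProduct.tmul_add, map_add, ha, hb]
      | tmul a b =>
          refine TensorProduct.AlgebraTensorModule.ext fun s' x => ?_
          simp [envBC, endBC_tmul, AlgHom.mulLeftRight_apply, TensorProduct.AlgebraTensorModule.distribBaseChange,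
            TensorProduct.smul_tmul', Algebra.TensorProduct.tmul_mul_tmul]

theorem bijective_mulLeftRight_baseChange_iff [Module.Finite R A] [Module.Projective R A] :
    Function.Bijective (AlgHom.mulLeftRight S (S ⊗[R] A)) ↔
      Function.Bijective (lTensor S (AlgHom.mulLeftRight R A).toLinearMap) := by
  have h : (⇑(AlgHom.mulLeftRight S (S ⊗[R] A)) ∘ ⇑(envBC S A)) =
      ⇑(endBC (R := R) S A) ∘ ⇑((AlgHom.mulLeftRight R A).toLinearMap.baseChange S) :=
    funext fun z => (endBC_lTensor_eq S A z).symm
  rw [← Function.Bijective.of_comp_iff _ (envBC S A).bijective, h, Function.Bijective.of_comp_iff' (endBC_bijective S A)]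
  rfl

end Compat

section Nakayama

theorem subsingleton_of_fibres (C : Type v) [AddCommGroup C] [Module R C] [Module.Finite R C]
    (h : ∀ p : Ideal R, p.IsMaximal → Subsingleton ((R ⧸ p) ⊗[R] C)) : Subsingleton C := by
  have hann : ∀ p : Ideal R, p.IsMaximal → ¬ Module.annihilator R C ≤ p := fun p hp hle => by
    haveI := h p hp
    haveI : Subsingleton (C ⧸ (p • ⊤ : Submodule R C)) :=
      (TensorProduct.quotTensorEquivQuotSMul C p).symm.injective.subsingleton
    have htop : (p • ⊤ : Submodule R C) = ⊤ := Submodule.Quotient.subsingleton_iff.1 inferInstance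
    obtain ⟨r, hr, hr0⟩ :=
      Submodule.exists_sub_one_mem_and_smul_eq_zero_of_fg_of_le_smul p ⊤ Module.Finite.fg_top htop.ge
    have hrp : r ∈ p := hle (Module.mem_annihilator.2 fun x => hr0 x trivial)
    exact hp.ne_top ((Ideal.eq_top_iff_one p).2 (by simpa using p.sub_mem hrp hr))
  have htop : Module.annihilator R C = ⊤ := by
    by_contra hne
    obtain ⟨p, hp, hle⟩ := Ideal.exists_le_maximal _ hne
    exact hann p hp hle
  refine subsingleton_of_forall_eq 0 fun x => ?_
  have h1 : (1 : R) ∈ Module.annihilator R C := htop ▸ trivial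
  simpa using Module.mem_annihilator.1 h1 x

/-- A map of finite projective modules bijective on all closed fibres is bijective. -/
theorem bijective_of_fibres {M : Type v} {N : Type w} [AddCommGroup M] [Module R M] [Module.Finite R M]
    [AddCommGroup N] [Module R N] [Module.Finite R N] [Module.Projective R N] (f : M →ₗ[R] N)
    (h : ∀ p : Ideal R, p.IsMaximal → Function.Bijective (lTensor (R ⧸ p) f)) : Function.Bijective f := by
  have hsurj : Function.Surjective f := by
    have hsub : Subsingleton (N ⧸ LinearMap.range f) := subsingleton_of_fibres _ fun p hp => by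
      refine subsingleton_of_forall_eq 0 fun z => ?_
      obtain ⟨y, rfl⟩ := LinearMap.lTensor_surjective (R ⧸ p) (LinearMap.range f).mkQ_surjective z
      obtain ⟨x, rfl⟩ := (h p hp).2 y
      rw [← LinearMap.comp_apply, ← LinearMap.lTensor_comp, LinearMap.range_mkQ_comp, LinearMap.lTensor_zero,
        LinearMap.zero_apply]
    exact LinearMap.range_eq_top.1 (Submodule.Quotient.subsingleton_iff.1 hsub)
  obtain ⟨s, hs⟩ := Module.projective_lifting_property f LinearMap.id hsurj
  have hfs : ∀ y, f (s y) = y := fun y => LinearMap.congr_fun hs y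
  set K := LinearMap.range (LinearMap.id - s ∘ₗ f)
  have hK : Subsingleton K := subsingleton_of_fibres _ fun p hp => by
    refine subsingleton_of_forall_eq 0 fun z => ?_
    obtain ⟨y, rfl⟩ := LinearMap.lTensor_surjective (R ⧸ p) (LinearMap.id - s ∘ₗ f).surjective_rangeRestrict z
    set r := (LinearMap.id - s ∘ₗ f).rangeRestrict
    have hret : r ∘ₗ K.subtype = LinearMap.id := LinearMap.ext fun w => Subtype.ext (by
      obtain ⟨x, hx⟩ := w.2
      show (w : M) - s (f w) = w
      have : f (w : M) = 0 := by rw [← hx]; simp [hfs]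
      rw [this, map_zero, sub_zero])
    have h0 : lTensor (R ⧸ p) K.subtype (lTensor (R ⧸ p) r y) = 0 := by
      refine (h p hp).1 ?_
      rw [map_zero, ← LinearMap.comp_apply, ← LinearMap.lTensor_comp, ← LinearMap.comp_apply, ← LinearMap.lTensor_comp,
        show (f ∘ₗ K.subtype) ∘ₗ r = 0 from LinearMap.ext fun x => by simp [r, hfs], LinearMap.lTensor_zero,
        LinearMap.zero_apply]
    have h1 := congrArg (lTensor (R ⧸ p) r) h0
    rwa [map_zero, ← LinearMap.comp_apply, ← LinearMap.lTensor_comp, hret, LinearMap.lTensor_id, LinearMap.id_apply]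
      at h1
  refine ⟨(injective_iff_map_eq_zero f).2 fun x hx => ?_, hsurj⟩
  have hx' : (⟨x, x, by simp [hx]⟩ : K) = 0 := Subsingleton.elim _ _
  exact congrArg Subtype.val hx'

end Nakayama

section Faithful

theorem faithfullyFlat_of_faithful (P : Type v) [AddCommGroup P] [Module R P] [Module.Finite R P]
    [Module.Projective R P] [FaithfulSMul R P] : Module.FaithfullyFlat R P := by
  refine ⟨fun m hm h => hm.ne_top ((Ideal.eq_top_iff_one m).2 ?_)⟩
  obtain ⟨r, hr, hr0⟩ :=
    Submodule.exists_sub_one_mem_and_smul_eq_zero_of_fg_of_le_smul m ⊤ Module.Finite.fg_top h.ge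
  have h0 : r = 0 := FaithfulSMul.eq_of_smul_eq_smul fun x : P => by rw [hr0 x trivial, zero_smul]
  simpa [h0] using m.neg_mem hr

theorem faithfulSMul_of_faithfullyFlat (P : Type v) [AddCommGroup P] [Module R P] [Module.FaithfullyFlat R P] :
    FaithfulSMul R P := by
  refine ⟨fun {a b} h => sub_eq_zero.1 ?_⟩
  have h0 : lTensor P (LinearMap.lsmul R R (a - b)) = 0 := by
    refine TensorProduct.ext' fun x y => ?_
    rw [LinearMap.lTensor_tmul, LinearMap.lsmul_apply, TensorProduct.tmul_smul, TensorProduct.smul_tmul', sub_smul,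
      h x, sub_self, TensorProduct.zero_tmul, LinearMap.zero_apply]
  have h1 := (Module.FaithfullyFlat.zero_iff_lTensor_zero R P (LinearMap.lsmul R R (a - b))).2 h0
  simpa using LinearMap.congr_fun h1 1

end Faithful

section Main

variable {A : Type v} [Ring A] [Algebra R A]

theorem faithfullyFlat [IsAzumaya R A] : Module.FaithfullyFlat R A := faithfullyFlat_of_faithful A

/-- Base change of an Azumaya algebra. -/
theorem baseChange [IsAzumaya R A] (S : Type w) [CommRing S] [Algebra R S] : IsAzumaya S (S ⊗[R] A) := by
  haveI := faithfullyFlat (R := R) (A := A)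
  haveI : FaithfulSMul S (S ⊗[R] A) := faithfulSMul_of_faithfullyFlat _
  exact ⟨(bijective_mulLeftRight_baseChange_iff S A).2
    ((LinearEquiv.ofBijective (AlgHom.mulLeftRight R A).toLinearMap IsAzumaya.bij).lTensor S).bijective⟩

/-- The fibrewise criterion. -/
theorem of_fibres [Module.Finite R A] [Module.Projective R A]
    (h : ∀ p : Ideal R, p.IsMaximal → IsAzumaya (R ⧸ p) ((R ⧸ p) ⊗[R] A)) : IsAzumaya R A := by
  have hff : Module.FaithfullyFlat R A := ⟨fun m hm heq => by
    haveI := (h m hm).toFaithfulSMul
    haveI : Nontrivial (R ⧸ m) := Ideal.Quotient.nontrivial_iff.2 hm.ne_top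
    haveI hA : Subsingleton (A ⧸ (m • ⊤ : Submodule R A)) := Submodule.Quotient.subsingleton_iff.2 heq
    haveI : Subsingleton ((R ⧸ m) ⊗[R] A) := (TensorProduct.quotTensorEquivQuotSMul A m).injective.subsingleton
    exact one_ne_zero (FaithfulSMul.eq_of_smul_eq_smul (M := R ⧸ m) (m₁ := 1) (m₂ := 0)
      fun x : (R ⧸ m) ⊗[R] A => Subsingleton.elim _ _)⟩
  haveI := faithfulSMul_of_faithfullyFlat (R := R) A
  haveI := (projective_end (R := R) A).1
  haveI := (projective_end (R := R) A).2
  haveI : Module.Finite R Aᵐᵒᵖ := Module.Finite.equiv (MulOpposite.opLinearEquiv R)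
  exact ⟨bijective_of_fibres (AlgHom.mulLeftRight R A).toLinearMap fun p hp =>
    (bijective_mulLeftRight_baseChange_iff (R ⧸ p) A).1 (h p hp).bij⟩

/-- Descent when the algebra is known to be finite projective. -/
theorem of_baseChange [Module.Finite R A] [Module.Projective R A] (S : Type w) [CommRing S] [Algebra R S]
    [Module.FaithfullyFlat R S] [IsAzumaya S (S ⊗[R] A)] : IsAzumaya R A := by
  haveI : FaithfulSMul R A := ⟨fun {a b} h => by
    refine FaithfulSMul.algebraMap_injective R S ?_
    refine FaithfulSMul.eq_of_smul_eq_smul fun x : S ⊗[R] A => ?_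
    rw [algebraMap_smul, algebraMap_smul]
    induction x using TensorProduct.induction_on with
    | zero => simp
    | add u v hu hv => rw [smul_add, smul_add, hu, hv]
    | tmul s y => rw [← TensorProduct.tmul_smul, ← TensorProduct.tmul_smul, h y]⟩
  exact ⟨(Module.FaithfullyFlat.lTensor_bijective_iff_bijective R S (AlgHom.mulLeftRight R A).toLinearMap).1
    ((bijective_mulLeftRight_baseChange_iff S A).1 IsAzumaya.bij)⟩

theorem projective_of_baseChange (M : Type v) [AddCommGroup M] [Module R M] (S : Type w) [CommRing S] [Algebra R S]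
    [Module.FaithfullyFlat R S] [Module.Finite S (S ⊗[R] M)] [Module.Projective S (S ⊗[R] M)] :
    Module.Finite R M ∧ Module.Projective R M := by
  haveI : Module.Finite R M := Module.Finite.of_finite_tensorProduct_of_faithfullyFlat S
  haveI : Module.Flat R M := Module.Flat.of_flat_tensorProduct R M S
  obtain ⟨n, f, hf⟩ := Module.Finite.exists_fin' R M
  have hsurj : Function.Surjective (f.baseChange S) := LinearMap.lTensor_surjective S hf
  obtain ⟨s, hs⟩ := Module.projective_lifting_property (f.baseChange S) LinearMap.id hsurj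
  have hexact : Function.Exact ((LinearMap.ker f).subtype.baseChange S) (f.baseChange S) :=
    Module.Flat.lTensor_exact S (LinearMap.exact_subtype_ker_map f)
  have hinj : Function.Injective ((LinearMap.ker f).subtype.baseChange S) :=
    Module.Flat.lTensor_preserves_injective_linearMap _ Subtype.val_injective
  have hs' : ∀ y, f.baseChange S (s y) = y := fun y => LinearMap.congr_fun hs y
  haveI hkfin : Module.Finite S (LinearMap.ker (f.baseChange S)) := by
    let r : S ⊗[R] (Fin n → R) →ₗ[S] LinearMap.ker (f.baseChange S) :=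
      LinearMap.codRestrict (LinearMap.ker (f.baseChange S)) (LinearMap.id - s.comp (f.baseChange S)) fun x => by
        show f.baseChange S (x - s (f.baseChange S x)) = 0
        rw [map_sub, hs', sub_self]
    refine Module.Finite.of_surjective r fun y => ⟨y, Subtype.ext ?_⟩
    show (y : S ⊗[R] (Fin n → R)) - s (f.baseChange S y) = y
    rw [LinearMap.mem_ker.1 y.2, map_zero, sub_zero]
  haveI : Module.Finite S (LinearMap.range ((LinearMap.ker f).subtype.baseChange S)) :=
    Module.Finite.equiv (LinearEquiv.ofEq _ _ (LinearMap.exact_iff.1 hexact))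
  haveI : Module.Finite S (S ⊗[R] LinearMap.ker f) :=
    Module.Finite.equiv (LinearEquiv.ofInjective _ hinj).symm
  haveI hker : Module.Finite R (LinearMap.ker f) := Module.Finite.of_finite_tensorProduct_of_faithfullyFlat S
  haveI : Module.FinitePresentation R M :=
    Module.finitePresentation_of_surjective f hf (Module.Finite.iff_fg.1 hker)
  exact ⟨inferInstance, Module.Flat.projective_of_finitePresentation⟩

/-- Faithfully flat descent. -/
theorem of_baseChange_faithfullyFlat (S : Type w) [CommRing S] [Algebra R S] [Module.FaithfullyFlat R S]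
    [IsAzumaya S (S ⊗[R] A)] : IsAzumaya R A := by
  obtain ⟨h1, h2⟩ := projective_of_baseChange (R := R) A S
  exact of_baseChange S

/-- Over a field Azumaya means central simple. -/
theorem of_isCSA {k : Type u} [Field k] {D : Type v} [Ring D] [Algebra k D] (h : CSA.IsCSA k D) : IsAzumaya k D := by
  obtain ⟨h1, h2, h3⟩ := h
  haveI : IsSimpleRing (D ⊗[k] Dᵐᵒᵖ) := CSA.isSimpleRing_tensor_right
  exact ⟨⟨(AlgHom.mulLeftRight k D).toRingHom.injective, CSA.mulLeftRight_surjective⟩⟩

theorem isCSA {k : Type u} [Field k] {D : Type v} [Ring D] [Algebra k D] [IsAzumaya k D] : CSA.IsCSA k D := by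
  haveI : Nontrivial D := by
    by_contra h
    rw [not_nontrivial_iff_subsingleton] at h
    exact one_ne_zero (FaithfulSMul.eq_of_smul_eq_smul (M := k) (m₁ := 1) (m₂ := 0) fun x : D => Subsingleton.elim _ _)
  refine ⟨inferInstance, IsSimpleRing.of_eq_bot_or_eq_top fun I => or_iff_not_imp_left.2 fun hI => ?_, inferInstance⟩
  obtain ⟨x, hx, hx0⟩ : ∃ x ∈ I, x ≠ 0 := by
    by_contra! h
    exact hI (TwoSidedIdeal.ext fun y => ⟨fun hy => by rw [h y hy]; exact zero_mem _,
      fun hy => by rw [(TwoSidedIdeal.mem_bot D).1 hy]; exact zero_mem _⟩)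
  obtain ⟨φ, hφ⟩ := Module.Projective.exists_dual_ne_zero (R := k) hx0
  obtain ⟨t, ht⟩ := (IsAzumaya.bij (R := k) (A := D)).2 ((LinearMap.toSpanSingleton k D ((φ x)⁻¹ • 1)).comp φ)
  have hmem : ∀ t, AlgHom.mulLeftRight k D t x ∈ I := fun t => by
    induction t using TensorProduct.induction_on with
    | zero => simpa using zero_mem I
    | add a b ha hb => rw [map_add, LinearMap.add_apply]; exact add_mem ha hb
    | tmul a b => rw [AlgHom.mulLeftRight_apply]; exact I.mul_mem_right _ _ (I.mul_mem_left _ _ hx)
  refine top_unique fun y _ => ?_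
  have h1 : (1 : D) ∈ I := by
    have := hmem t
    rwa [ht, LinearMap.comp_apply, LinearMap.toSpanSingleton_apply, smul_smul, mul_inv_cancel₀ hφ, one_smul] at this
  simpa using I.mul_mem_left y 1 h1

/-- `S ⊗ (A ⊗ B) ≅ (S ⊗ A) ⊗ (S ⊗ B)`. -/
theorem nonempty_distribBaseChange (B : Type x) [Ring B] [Algebra R B] (S : Type w) [CommRing S] [Algebra R S] :
    Nonempty (S ⊗[R] (A ⊗[R] B) ≃ₐ[S] (S ⊗[R] A) ⊗[S] (S ⊗[R] B)) := by
  refine ⟨AlgEquiv.ofLinearEquiv (TensorProduct.AlgebraTensorModule.distribBaseChange R S A B) ?_ ?_⟩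
  · simp [Algebra.TensorProduct.one_def, TensorProduct.AlgebraTensorModule.distribBaseChange]
  · intro x y
    induction x using TensorProduct.induction_on with
    | zero => simp
    | add a b ha hb => simp only [add_mul, map_add, ha, hb]
    | tmul s t =>
      induction y using TensorProduct.induction_on with
      | zero => simp
      | add a b ha hb => simp only [mul_add, map_add, ha, hb]
      | tmul s' t' =>
        induction t using TensorProduct.induction_on with
        | zero => simp
        | add a b ha hb => simp only [TensorProduct.tmul_add, add_mul, map_add, ha, hb]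
        | tmul a b =>
          induction t' using TensorProduct.induction_on with
          | zero => simp
          | add a' b' ha hb => simp only [TensorProduct.tmul_add, mul_add, map_add, ha, hb]
          | tmul a' b' =>
            simp [TensorProduct.AlgebraTensorModule.distribBaseChange, Algebra.TensorProduct.tmul_mul_tmul]

/-- Tensor products of Azumaya algebras. -/
theorem tensor [IsAzumaya R A] (B : Type x) [Ring B] [Algebra R B] [IsAzumaya R B] : IsAzumaya R (A ⊗[R] B) := by
  refine of_fibres fun p hp => ?_
  letI := Ideal.Quotient.field p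
  haveI := baseChange (R := R) (A := A) (R ⧸ p)
  haveI := baseChange (R := R) (A := B) (R ⧸ p)
  obtain ⟨e⟩ := nonempty_distribBaseChange (R := R) (A := A) B (R ⧸ p)
  exact of_isCSA (((isCSA (k := R ⧸ p) (D := (R ⧸ p) ⊗[R] A)).tensor
    (isCSA (k := R ⧸ p) (D := (R ⧸ p) ⊗[R] B))).of_algEquiv e.symm)

/-- Endomorphisms of a faithful finite projective module. -/
theorem moduleEnd (P : Type v) [AddCommGroup P] [Module R P] [Module.Finite R P] [Module.Projective R P]
    [FaithfulSMul R P] : IsAzumaya R (Module.End R P) := by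
  haveI := (projective_end (R := R) P).1
  haveI := (projective_end (R := R) P).2
  haveI := faithfullyFlat_of_faithful (R := R) P
  refine of_fibres fun p hp => ?_
  letI := Ideal.Quotient.field p
  haveI : Nontrivial ((R ⧸ p) ⊗[R] P) := by
    haveI : Nontrivial (R ⧸ p) := Ideal.Quotient.nontrivial_iff.2 hp.ne_top
    infer_instance
  set b := Module.Free.chooseBasis (R ⧸ p) ((R ⧸ p) ⊗[R] P)
  classical
  haveI := b.index_nonempty
  haveI := IsAzumaya.matrix (R := R ⧸ p) (n := Module.Free.ChooseBasisIndex (R ⧸ p) ((R ⧸ p) ⊗[R] P))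
  exact IsAzumaya.of_AlgEquiv (R := R ⧸ p) _ _ ((endBCEquiv (R ⧸ p) P).trans (algEquivMatrix b)).symm

/-- `T ⊗_S (S ⊗_R A) ≅ T ⊗_R A` for possibly non-commutative `A`. -/
theorem nonempty_cancelBaseChange (S : Type w) [CommRing S] [Algebra R S] (T : Type x) [CommRing T] [Algebra R T]
    [Algebra S T] [IsScalarTower R S T] : Nonempty (T ⊗[S] (S ⊗[R] A) ≃ₐ[T] T ⊗[R] A) := by
  refine ⟨AlgEquiv.ofLinearEquiv (TensorProduct.AlgebraTensorModule.cancelBaseChange R S T T A) ?_ ?_⟩
  · simp [Algebra.TensorProduct.one_def]
  · intro a b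
    induction a using TensorProduct.induction_on with
    | zero => simp
    | add u v hu hv => simp only [add_mul, map_add, hu, hv]
    | tmul t c =>
      induction b using TensorProduct.induction_on with
      | zero => simp
      | add u v hu hv => simp only [mul_add, map_add, hu, hv]
      | tmul t' c' =>
        induction c using TensorProduct.induction_on with
        | zero => simp
        | add u v hu hv => simp only [TensorProduct.tmul_add, add_mul, map_add, hu, hv]
        | tmul s y =>
          induction c' using TensorProduct.induction_on with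
          | zero => simp
          | add u v hu hv => simp only [TensorProduct.tmul_add, mul_add, map_add, hu, hv]
          | tmul s' y' =>
            simp [Algebra.TensorProduct.tmul_mul_tmul, smul_smul, Algebra.smul_def]
            ring_nf

/-- A closed fibre is Azumaya as soon as some base change is Azumaya and a prime lies over the point. -/
theorem fibre_of_prime (S : Type w) [CommRing S] [Algebra R S] [IsAzumaya S (S ⊗[R] A)] [Module.Finite R A]
    [Module.Projective R A] (p : Ideal R) [p.IsMaximal] (q : Ideal S) [q.IsPrime]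
    (hqp : q.comap (algebraMap R S) = p) : IsAzumaya (R ⧸ p) ((R ⧸ p) ⊗[R] A) := by
  letI := Ideal.Quotient.field p
  let K := FractionRing (S ⧸ q)
  letI : Algebra (R ⧸ p) K := ((algebraMap (S ⧸ q) K).comp
    (Ideal.quotientMap q (algebraMap R S) hqp.ge)).toAlgebra
  haveI : IsScalarTower R (R ⧸ p) K := IsScalarTower.of_algebraMap_eq fun r => by
    rw [RingHom.algebraMap_toAlgebra, RingHom.comp_apply, Ideal.Quotient.algebraMap_eq, Ideal.quotientMap_mk,
      IsScalarTower.algebraMap_apply R S K, IsScalarTower.algebraMap_apply S (S ⧸ q) K,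
      Ideal.Quotient.algebraMap_eq]
  haveI := baseChange (R := S) (A := S ⊗[R] A) K
  obtain ⟨e1⟩ := nonempty_cancelBaseChange (R := R) (A := A) S K
  obtain ⟨e2⟩ := nonempty_cancelBaseChange (R := R) (A := A) (R ⧸ p) K
  haveI : IsAzumaya K (K ⊗[R] A) := IsAzumaya.of_AlgEquiv (R := K) _ _ e1
  haveI : IsAzumaya K (K ⊗[R ⧸ p] ((R ⧸ p) ⊗[R] A)) :=
    IsAzumaya.of_AlgEquiv (R := K) _ _ e2.symm
  exact of_baseChange (R := R ⧸ p) (A := (R ⧸ p) ⊗[R] A) K

/-- Descent along a map surjective on spectra. -/
theorem of_comap_surjective [Module.Finite R A] [Module.Projective R A] (S : Type w) [CommRing S] [Algebra R S]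
    (hS : Function.Surjective (PrimeSpectrum.comap (algebraMap R S))) [IsAzumaya S (S ⊗[R] A)] : IsAzumaya R A := by
  refine of_fibres fun p hp => ?_
  obtain ⟨q, hq⟩ := hS ⟨p, hp.isPrime⟩
  exact fibre_of_prime S p q.asIdeal (congrArg PrimeSpectrum.asIdeal hq)

end Main

end Groth.Agent.Azu
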