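import Groth.Agent.Azu.Morita
import Mathlib.RingTheory.PicardGroup
import Mathlib.RingTheory.Support
import Mathlib.RingTheory.Spectrum.Prime.Topology

/-!
Twisted modules of automorphisms and isomorphisms of endomorphism algebras.
-/

set_option autoImplicit false

universe u v w x

open scoped TensorProduct

namespace Groth.Agent.Azu

variable {R : Type u} [CommRing R]

section Twist

variable {A : Type v} [Ring A] [Algebra R A] (φ : A ≃ₐ[R] A)

/-- `{l | φ a * l = l * a}`. -/
noncomputable def twist : Submodule R A where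
  carrier := {l | ∀ a : A, φ a * l = l * a}
  zero_mem' := fun a => by simp
  add_mem' := fun h h' a => by rw [mul_add, add_mul, h a, h' a]
  smul_mem' := fun r m h a => by rw [mul_smul_comm, smul_mul_assoc, h a]

/-- The twisted action of the enveloping algebra. -/
noncomputable def twistAct : A ⊗[R] Aᵐᵒᵖ →ₐ[R] Module.End R A :=
  (AlgHom.mulLeftRight R A).comp (Algebra.TensorProduct.map φ.toAlgHom (AlgHom.id R Aᵐᵒᵖ))

theorem twistAct_tmul (a : A) (b : Aᵐᵒᵖ) (x : A) : twistAct φ (a ⊗ₜ b) x = φ a * x * b.unop := by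
  simp [twistAct, AlgHom.mulLeftRight_apply]

variable [IsAzumaya R A]

theorem mem_inv_twistAct {l : A} : l ∈ inv (twistAct φ) ↔ l ∈ twist φ := by
  rw [mem_inv]
  simp only [twistAct_tmul, MulOpposite.unop_one, MulOpposite.unop_op, mul_one, map_one, one_mul]
  exact Iff.rfl

/-- Over every point the twisted module contains a local unit. -/
theorem exists_twist_unit (p : Ideal R) [p.IsPrime] :
    ∃ l ∈ twist φ, ∃ f : R, f ∉ p ∧ ∃ x : A, l * x = f • 1 ∧ φ x * l = f • 1 := by
  classical
  haveI := baseChange (R := R) (A := A) p.ResidueField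
  obtain ⟨-, hs, -⟩ := isCSA (k := p.ResidueField) (D := p.ResidueField ⊗[R] A)
  set ι : A →ₐ[R] p.ResidueField ⊗[R] A := Algebra.TensorProduct.includeRight
  obtain ⟨z, hz⟩ := (invMul_bijective (twistAct φ)).2 1
  obtain ⟨l, hl, hl0⟩ : ∃ l ∈ twist φ, ι l ≠ 0 := by
    by_contra! h
    have h1 : ∀ z, ι (invMul (twistAct φ) z) = 0 := fun z => by
      induction z using TensorProduct.induction_on with
      | zero => simp
      | add a b ha hb => rw [map_add, map_add, ha, hb, add_zero]
      | tmul l a => rw [invMul_tmul, twistAct_tmul, MulOpposite.unop_one, mul_one, map_mul,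
          h _ ((mem_inv_twistAct φ).1 l.2), mul_zero]
    exact one_ne_zero ((map_one ι).symm.trans (hz ▸ h1 z))
  refine ⟨l, hl, ?_⟩
  set P : AddSubgroup (p.ResidueField ⊗[R] A) := (AddMonoidHom.mulLeft (ι l)).range
  have hmove : ∀ y : p.ResidueField ⊗[R] A, ∃ y', y * ι l = ι l * y' := fun y => by
    induction y using TensorProduct.induction_on with
    | zero => exact ⟨0, by rw [zero_mul, mul_zero]⟩
    | add a b ha hb =>
        obtain ⟨a', ha⟩ := ha
        obtain ⟨b', hb⟩ := hb
        exact ⟨a' + b', by rw [add_mul, mul_add, ha, hb]⟩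
    | tmul s a =>
        refine ⟨s ⊗ₜ φ.symm a, ?_⟩
        rw [show ι l = (1 : p.ResidueField) ⊗ₜ[R] l from rfl, Algebra.TensorProduct.tmul_mul_tmul,
          Algebra.TensorProduct.tmul_mul_tmul, mul_one, one_mul, ← hl (φ.symm a), φ.apply_symm_apply]
  let I : TwoSidedIdeal (p.ResidueField ⊗[R] A) := TwoSidedIdeal.mk' (P : Set _) (zero_mem P)
    (fun h h' => add_mem h h') (fun h => neg_mem h)
    (fun {x y} h => by
      obtain ⟨w, rfl⟩ := h
      obtain ⟨x', hx'⟩ := hmove x
      exact ⟨x' * w, by simp [← mul_assoc, hx']⟩)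
    (fun {x y} h => by
      obtain ⟨w, rfl⟩ := h
      exact ⟨w * y, by simp [mul_assoc]⟩)
  have hI : I = ⊤ := (eq_bot_or_eq_top I).resolve_left fun h => hl0 (by
    have h1 : ι l ∈ I := by rw [TwoSidedIdeal.mem_mk']; exact ⟨1, by simp⟩
    rwa [h, TwoSidedIdeal.mem_bot] at h1)
  obtain ⟨w, hw⟩ : ∃ w, ι l * w = 1 := by
    have h1 : (1 : p.ResidueField ⊗[R] A) ∈ I := hI ▸ TwoSidedIdeal.mem_top _
    rw [TwoSidedIdeal.mem_mk'] at h1
    exact h1
  set N := A ⧸ LinearMap.range (LinearMap.mulLeft R l)
  set q : A →ₗ[R] N := (LinearMap.range (LinearMap.mulLeft R l)).mkQ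
  haveI : Subsingleton (p.ResidueField ⊗[R] N) := by
    refine subsingleton_of_forall_eq 0 fun z => ?_
    obtain ⟨y, rfl⟩ := LinearMap.lTensor_surjective p.ResidueField (Submodule.mkQ_surjective _) z
    have h : ∀ y, LinearMap.lTensor p.ResidueField q (ι l * y) = 0 := fun y => by
      induction y using TensorProduct.induction_on with
      | zero => simp
      | add a b ha hb => rw [mul_add, map_add, ha, hb, add_zero]
      | tmul s a =>
          rw [show ι l = (1 : p.ResidueField) ⊗ₜ[R] l from rfl, Algebra.TensorProduct.tmul_mul_tmul, one_mul,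
            LinearMap.lTensor_tmul, (Submodule.Quotient.mk_eq_zero _).2 ⟨a, rfl⟩ |> fun h => (show q (l * a) = 0 from h),
            TensorProduct.tmul_zero]
    have := h (w * y)
    rwa [← mul_assoc, hw, one_mul] at this
  have hsupp : (⟨p, inferInstance⟩ : PrimeSpectrum R) ∉ Module.support R N := fun h => by
    rw [Module.mem_support_iff_nontrivial_residueField_tensorProduct] at h
    exact false_of_nontrivial_of_subsingleton (p.ResidueField ⊗[R] N)
  rw [Module.notMem_support_iff'] at hsupp
  obtain ⟨f, hf, hf0⟩ := hsupp (q 1)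
  rw [← map_smul] at hf0
  obtain ⟨x, hx⟩ := (Submodule.Quotient.mk_eq_zero _).1 hf0
  exact ⟨f, hf, x, hx, (hl x).trans hx⟩

theorem inner_locally (p : Ideal R) [p.IsPrime] :
    ∃ (f : R) (_ : f ∉ p) (u : (Localization.Away f ⊗[R] A)ˣ),
      ∀ a : Localization.Away f ⊗[R] A,
        Algebra.TensorProduct.map (AlgHom.id (Localization.Away f) (Localization.Away f)) (φ : A →ₐ[R] A) a =
          (u : Localization.Away f ⊗[R] A) * a * (u⁻¹ : (Localization.Away f ⊗[R] A)ˣ) := by
  obtain ⟨l, hl, f, hf, x, h1, h2⟩ := exists_twist_unit φ p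
  refine ⟨f, hf, ?_⟩
  set s : Localization.Away f := IsLocalization.Away.invSelf f
  have hs : s * algebraMap R (Localization.Away f) f = 1 := by
    rw [mul_comm]; exact IsLocalization.Away.mul_invSelf f
  have hfs : s ⊗ₜ[R] (f • (1 : A)) = 1 := by
    rw [TensorProduct.tmul_smul, TensorProduct.smul_tmul', Algebra.smul_def, mul_comm, hs, Algebra.TensorProduct.one_def]
  set u : Localization.Away f ⊗[R] A := 1 ⊗ₜ l
  have hr : u * (s ⊗ₜ x) = 1 := by rw [Algebra.TensorProduct.tmul_mul_tmul, one_mul, h1, hfs]
  have hlft : (s ⊗ₜ φ x) * u = 1 := by rw [Algebra.TensorProduct.tmul_mul_tmul, mul_one, h2, hfs]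
  refine ⟨⟨u, s ⊗ₜ x, hr, by rw [← left_inv_eq_right_inv hlft hr]; exact hlft⟩, fun a => ?_⟩
  rw [Units.eq_mul_inv_iff_mul_eq]
  show _ * u = u * a
  induction a using TensorProduct.induction_on with
  | zero => simp
  | add a b ha hb => rw [map_add, add_mul, mul_add, ha, hb]
  | tmul c b =>
      rw [Algebra.TensorProduct.map_tmul, AlgHom.id_apply, Algebra.TensorProduct.tmul_mul_tmul,
        Algebra.TensorProduct.tmul_mul_tmul, mul_one, one_mul]
      exact congrArg (c ⊗ₜ[R] ·) (hl b)

omit [IsAzumaya R A] in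
/-- A pairing into the scalars of two twisted modules with the middle exchange property is bijective if unit. -/
theorem pairing_bijective {L L' : Type*} [AddCommGroup L] [Module R L] [AddCommGroup L'] [Module R L']
    (b : L' →ₗ[R] L →ₗ[R] R) (swap : L →ₗ[R] L' →ₗ[R] R)
    (h : ∀ (q : L) (a : L') (c : L), swap q a • c = b a c • q)
    (h' : ∀ (p : L') (q : L) (a : L'), swap q a • p = b p q • a)
    (hJ : ∀ m : Ideal R, m.IsMaximal → ∃ a c, b a c ∉ m) :
    Function.Bijective (TensorProduct.lift b) := by
  have hsurj : Function.Surjective (TensorProduct.lift b) := by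
    rw [← LinearMap.range_eq_top]
    by_contra hne
    obtain ⟨m, hm, hle⟩ := Ideal.exists_le_maximal _ hne
    obtain ⟨a, c, hac⟩ := hJ m hm
    exact hac (hle ⟨a ⊗ₜ c, by simp⟩)
  refine ⟨?_, hsurj⟩
  obtain ⟨e, he⟩ := hsurj 1
  have key : ∀ z e, TensorProduct.lift b z • e = TensorProduct.lift b e • z := fun z e => by
    induction z using TensorProduct.induction_on with
    | zero => simp
    | add u v hu hv => rw [map_add, add_smul, smul_add, hu, hv]
    | tmul p q =>
        induction e using TensorProduct.induction_on with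
        | zero => simp
        | add u v hu hv => rw [map_add, smul_add, add_smul, hu, hv]
        | tmul a c =>
            rw [TensorProduct.lift.tmul, TensorProduct.lift.tmul, TensorProduct.smul_tmul', ← h' p q a,
              TensorProduct.smul_tmul, h q a c, TensorProduct.tmul_smul]
  refine (injective_iff_map_eq_zero _).2 fun z hz => ?_
  have := key z e
  rwa [hz, zero_smul, he, one_smul, eq_comm] at this

/-- The twisted module is invertible. -/
theorem twist_invertible : Module.Invertible R (twist φ) := by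
  have hscal : ∀ (ψ : A ≃ₐ[R] A) (p q : A), p ∈ twist ψ → q ∈ twist ψ.symm → ∀ a, a * (p * q) = p * q * a :=
    fun ψ p q hp hq a => by
      rw [← ψ.apply_symm_apply a, ← mul_assoc, hp, mul_assoc, hq, ψ.apply_symm_apply, mul_assoc]
  have hl : ∀ (a : twist φ.symm) (c : twist φ), algebraMap R A (τ R A ((a : A) * c)) = (a : A) * c := fun a c =>
    exists_scalar_of_central R A (hscal φ.symm _ _ a.2 c.2)
  have hr : ∀ (c : twist φ) (a : twist φ.symm), algebraMap R A (τ R A ((c : A) * a)) = (c : A) * a := fun c a =>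
    exists_scalar_of_central R A (hscal φ _ _ c.2 a.2)
  let b : twist φ.symm →ₗ[R] twist φ →ₗ[R] R :=
    LinearMap.mk₂ R (fun a c => τ R A ((a : A) * c)) (fun a a' c => by simp [add_mul]) (fun r a c => by simp)
      (fun a c c' => by simp [mul_add]) (fun r a c => by simp)
  let s : twist φ →ₗ[R] twist φ.symm →ₗ[R] R :=
    LinearMap.mk₂ R (fun c a => τ R A ((c : A) * a)) (fun a a' c => by simp [add_mul]) (fun r a c => by simp)
      (fun a c c' => by simp [mul_add]) (fun r a c => by simp)
  refine Module.Invertible.right (R := R) (M := twist φ.symm) (LinearEquiv.ofBijective (TensorProduct.lift b)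
    (pairing_bijective b s (fun q a c => Subtype.ext ?_) (fun p q a => Subtype.ext ?_) fun m hm => ?_))
  · show τ R A ((q : A) * a) • (c : A) = τ R A ((a : A) * c) • (q : A)
    rw [Algebra.smul_def, Algebra.smul_def, hr, hl, mul_assoc, ← hl, ← Algebra.commutes]
  · show τ R A ((q : A) * a) • (p : A) = τ R A ((p : A) * q) • (a : A)
    rw [Algebra.smul_def, Algebra.smul_def, Algebra.commutes, hr, hl, mul_assoc]
  · haveI := hm.isPrime
    obtain ⟨l, hlm, f, hf, x, hx, -⟩ := exists_twist_unit φ m
    obtain ⟨l', hlm', f', hf', x', hx', -⟩ := exists_twist_unit φ.symm m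
    refine ⟨⟨l', hlm'⟩, ⟨l, hlm⟩, fun h => ?_⟩
    have h1 : (l' * l) * (x * x') = (f * f') • 1 := by
      rw [mul_assoc, ← mul_assoc l, hx, smul_mul_assoc, one_mul, mul_smul_comm, hx', smul_smul]
    have h2 : τ R A (l' * l) * τ R A (x * x') = f * f' := by
      have h3 := congrArg (τ R A) h1
      rw [← hl ⟨l', hlm'⟩ ⟨l, hlm⟩, ← Algebra.smul_def, map_smul, map_smul, τ_one, smul_eq_mul, smul_eq_mul, mul_one]
        at h3
      exact h3
    exact (hm.isPrime.mem_or_mem (h2 ▸ m.mul_mem_right _ h : f * f' ∈ m)).elim hf hf'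

end Twist

section Hom

variable {F G : Type*} [AddCommGroup F] [Module R F] [AddCommGroup G] [Module R G]
  (φ : Module.End R F ≃ₐ[R] Module.End R G)

/-- `{l : F → G | φ f ∘ l = l ∘ f}`. -/
noncomputable def homTwist : Submodule R (F →ₗ[R] G) where
  carrier := {l | ∀ f : Module.End R F, (φ f).comp l = l.comp f}
  zero_mem' := fun f => by simp
  add_mem' := fun h h' f => by rw [LinearMap.comp_add, LinearMap.add_comp, h f, h' f]
  smul_mem' := fun r m h f => by rw [LinearMap.comp_smul, LinearMap.smul_comp, h f]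

theorem dual_smul_top [Module.Finite R F] [Module.Projective R F] [FaithfulSMul R F] :
    Ideal.span {r | ∃ (θ : F →ₗ[R] R) (x : F), θ x = r} = ⊤ := by
  haveI := faithfullyFlat_of_faithful (R := R) F
  obtain ⟨n, i, π, hπi⟩ := exists_retract (R := R) F
  by_contra hne
  obtain ⟨m, hm, hle⟩ := Ideal.exists_le_maximal _ hne
  refine Module.FaithfullyFlat.submodule_ne_top (R := R) (M := F) hm (top_unique fun x _ => ?_)
  have h : i x = ∑ j, i x j • (Pi.single j (1 : R) : Fin n → R) := by
    ext l
    simp [Finset.sum_apply, Pi.single_apply]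
  rw [← LinearMap.id_apply (R := R) x, ← hπi, LinearMap.comp_apply, h, map_sum]
  refine sum_mem fun j _ => ?_
  rw [map_smul]
  exact Submodule.smul_mem_smul (hle (Ideal.subset_span ⟨(LinearMap.proj j).comp i, x, rfl⟩)) trivial

variable [Module.Finite R F] [Module.Projective R F] [FaithfulSMul R F]

/-- The evaluation `F ⊗ L → G`. -/
noncomputable def evalTwist : F ⊗[R] homTwist φ →ₗ[R] G :=
  TensorProduct.lift ((homTwist φ).subtype.flip)

theorem evalTwist_tmul (x : F) (l : homTwist φ) : evalTwist φ (x ⊗ₜ l) = (l : F →ₗ[R] G) x := by simp [evalTwist]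

theorem evalTwist_bijective : Function.Bijective (evalTwist φ) := by
  haveI := moduleEnd (R := R) F
  let fL : Module.End R F →ₐ[R] Module.End R (F →ₗ[R] G) :=
    AlgHom.ofLinearMap ((LinearMap.llcomp R F G G).comp φ.toLinearMap) (LinearMap.ext fun h => by
        show (φ 1).comp h = h
        rw [map_one]; rfl)
      (fun a b => LinearMap.ext fun h => by
        show (φ (a * b)).comp h = (φ a).comp ((φ b).comp h)
        rw [map_mul]; rfl)
  let fR : (Module.End R F)ᵐᵒᵖ →ₐ[R] Module.End R (F →ₗ[R] G) :=
    AlgHom.ofLinearMap ((LinearMap.llcomp R F F G).flip.comp (MulOpposite.opLinearEquiv R).symm.toLinearMap)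
      (LinearMap.ext fun h => rfl) (fun a b => LinearMap.ext fun h => rfl)
  let ρ := Algebra.TensorProduct.lift fL fR fun a b => LinearMap.ext fun h => rfl
  have hρ : ∀ a b h, ρ (a ⊗ₜ b) h = (φ a).comp (h.comp b.unop) := fun a b h => by simp [ρ, fL, fR]; rfl
  have hinv : ∀ l, l ∈ inv ρ ↔ l ∈ homTwist φ := fun l => by
    rw [mem_inv]
    refine forall_congr' fun a => ?_
    rw [hρ, hρ, map_one, MulOpposite.unop_one, MulOpposite.unop_op]
    exact Iff.rfl
  have htop := dual_smul_top (R := R) (F := F)
  constructor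
  · refine (injective_iff_map_eq_zero _).2 fun z hz => ?_
    let J : Ideal R :=
      { carrier := {r | r • z = 0}
        zero_mem' := zero_smul R z
        add_mem' := fun {a b} ha hb => by
          show (a + b) • z = 0
          rw [add_smul, (ha : a • z = 0), (hb : b • z = 0), add_zero]
        smul_mem' := fun r a ha => by
          show (r • a) • z = 0
          rw [smul_eq_mul, mul_smul, (ha : a • z = 0), smul_zero] }
    suffices hJ : ∀ (θ : F →ₗ[R] R) (y : F), θ y • z = 0 by
      have h1 : (1 : R) ∈ J := (Ideal.span_le.2 (by rintro _ ⟨θ, y, rfl⟩; exact hJ θ y)) (htop.symm ▸ Submodule.mem_top)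
      exact (one_smul R z).symm.trans h1
    intro θ y
    let w : F ⊗[R] homTwist φ →ₗ[R] inv ρ ⊗[R] Module.End R F :=
      TensorProduct.lift (LinearMap.mk₂ R (fun x (l : homTwist φ) => (⟨l.1, (hinv _).2 l.2⟩ : inv ρ) ⊗ₜ θ.smulRight x)
        (fun x x' l => by rw [← TensorProduct.tmul_add]; congr 1; ext; simp)
        (fun r x l => by rw [← TensorProduct.tmul_smul]; congr 1; ext; simp [smul_comm r])
        (fun x l l' => by rw [← TensorProduct.add_tmul]; rfl)
        (fun r x l => by rw [TensorProduct.smul_tmul']; rfl))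
    have hw : ∀ z, invMul ρ (w z) = θ.smulRight (evalTwist φ z) := fun z => by
      induction z using TensorProduct.induction_on with
      | zero => ext; simp
      | add a b ha hb => ext; simp [map_add, ha, hb]
      | tmul x l =>
          simp only [w, TensorProduct.lift.tmul, LinearMap.mk₂_apply, invMul_tmul, hρ, MulOpposite.unop_one]
          rw [← LinearMap.comp_assoc, l.2 (θ.smulRight x)]
          ext y
          simp [evalTwist_tmul]
    have hwz : w z = 0 := (invMul_bijective ρ).1 (by rw [hw, hz, map_zero]; ext; simp)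
    let back : inv ρ ⊗[R] Module.End R F →ₗ[R] F ⊗[R] homTwist φ :=
      TensorProduct.lift (LinearMap.mk₂ R (fun (l : inv ρ) f => f y ⊗ₜ (⟨l.1, (hinv _).1 l.2⟩ : homTwist φ))
        (fun l l' f => by rw [← TensorProduct.tmul_add]; rfl)
        (fun r l f => by rw [← TensorProduct.tmul_smul]; rfl)
        (fun l f f' => by rw [LinearMap.add_apply, TensorProduct.add_tmul])
        (fun r l f => by rw [LinearMap.smul_apply, TensorProduct.smul_tmul']))
    have hback : ∀ z, back (w z) = θ y • z := fun z => by
      induction z using TensorProduct.induction_on with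
      | zero => simp
      | add a b ha hb => rw [map_add, map_add, ha, hb, smul_add]
      | tmul x l => simp [back, w, TensorProduct.smul_tmul']
    rw [← hback, hwz, map_zero]
  · rw [← LinearMap.range_eq_top, eq_top_iff]
    intro g _
    have h1 : (1 : R) ∈ Ideal.span {r | ∃ (θ : F →ₗ[R] R) (x : F), θ x = r} := htop ▸ trivial
    suffices hJ : ∀ r ∈ Ideal.span {r | ∃ (θ : F →ₗ[R] R) (x : F), θ x = r}, r • g ∈ LinearMap.range (evalTwist φ) by
      simpa using hJ 1 h1
    intro r hr
    induction hr using Submodule.span_induction with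
    | zero => simp
    | add a b _ _ ha hb => rw [add_smul]; exact add_mem ha hb
    | smul a b _ hb => rw [smul_eq_mul, mul_smul]; exact Submodule.smul_mem _ a hb
    | mem r hr =>
        obtain ⟨θ, x, rfl⟩ := hr
        obtain ⟨z, hz⟩ := (invMul_bijective ρ).2 (θ.smulRight g)
        have h2 : ∀ z, invMul ρ z x ∈ LinearMap.range (evalTwist φ) := fun z => by
          induction z using TensorProduct.induction_on with
          | zero => simp
          | add a b ha hb => rw [map_add, LinearMap.add_apply]; exact add_mem ha hb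
          | tmul l f =>
              refine ⟨f x ⊗ₜ ⟨l.1, (hinv _).1 l.2⟩, ?_⟩
              rw [evalTwist_tmul, invMul_tmul, hρ, MulOpposite.unop_one]
              show (l : F →ₗ[R] G) (f x) = ((φ f).comp ((l : F →ₗ[R] G).comp 1)) x
              exact (LinearMap.congr_fun ((hinv _).1 l.2 f) x).symm
        have h3 := h2 z
        rwa [hz, LinearMap.smulRight_apply] at h3

variable [Module.Finite R G] [Module.Projective R G] [FaithfulSMul R G]

theorem homTwist_invertible : Module.Invertible R (homTwist φ) := by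
  haveI := moduleEnd (R := R) F
  haveI := moduleEnd (R := R) G
  have hl : ∀ (a : homTwist φ.symm) (c : homTwist φ), algebraMap R (Module.End R F) (τ R (Module.End R F)
      ((a : G →ₗ[R] F).comp (c : F →ₗ[R] G))) = (a : G →ₗ[R] F).comp (c : F →ₗ[R] G) := fun a c => by
    refine exists_scalar_of_central R (Module.End R F) fun f => LinearMap.ext fun x => ?_
    show f ((a : G →ₗ[R] F) ((c : F →ₗ[R] G) x)) = (a : G →ₗ[R] F) ((c : F →ₗ[R] G) (f x))
    have h1 := LinearMap.congr_fun (a.2 (φ f)) ((c : F →ₗ[R] G) x)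
    have h2 := LinearMap.congr_fun (c.2 f) x
    rw [φ.symm_apply_apply] at h1
    exact h1.trans (congrArg (a : G →ₗ[R] F) h2)
  have hr : ∀ (c : homTwist φ) (a : homTwist φ.symm), algebraMap R (Module.End R G) (τ R (Module.End R G)
      ((c : F →ₗ[R] G).comp (a : G →ₗ[R] F))) = (c : F →ₗ[R] G).comp (a : G →ₗ[R] F) := fun c a => by
    refine exists_scalar_of_central R (Module.End R G) fun f => LinearMap.ext fun x => ?_
    show f ((c : F →ₗ[R] G) ((a : G →ₗ[R] F) x)) = (c : F →ₗ[R] G) ((a : G →ₗ[R] F) (f x))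
    have h1 := LinearMap.congr_fun (c.2 (φ.symm f)) ((a : G →ₗ[R] F) x)
    have h2 := LinearMap.congr_fun (a.2 f) x
    rw [φ.apply_symm_apply] at h1
    exact h1.trans (congrArg (c : F →ₗ[R] G) h2)
  let b : homTwist φ.symm →ₗ[R] homTwist φ →ₗ[R] R :=
    LinearMap.mk₂ R (fun a c => τ R (Module.End R F) ((a : G →ₗ[R] F).comp (c : F →ₗ[R] G)))
      (fun a a' c => by simp [LinearMap.add_comp]) (fun r a c => by simp [LinearMap.smul_comp])
      (fun a c c' => by simp [LinearMap.comp_add]) (fun r a c => by simp [LinearMap.comp_smul])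
  let s : homTwist φ →ₗ[R] homTwist φ.symm →ₗ[R] R :=
    LinearMap.mk₂ R (fun c a => τ R (Module.End R G) ((c : F →ₗ[R] G).comp (a : G →ₗ[R] F)))
      (fun a a' c => by simp [LinearMap.add_comp]) (fun r a c => by simp [LinearMap.smul_comp])
      (fun a c c' => by simp [LinearMap.comp_add]) (fun r a c => by simp [LinearMap.comp_smul])
  have hl' : ∀ a c x, b a c • x = (a : G →ₗ[R] F) ((c : F →ₗ[R] G) x) := fun a c x =>
    LinearMap.congr_fun (hl a c) x
  have hr' : ∀ c a x, s c a • x = (c : F →ₗ[R] G) ((a : G →ₗ[R] F) x) := fun c a x =>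
    LinearMap.congr_fun (hr c a) x
  refine Module.Invertible.right (R := R) (M := homTwist φ.symm) (LinearEquiv.ofBijective (TensorProduct.lift b)
    (pairing_bijective b s (fun q a c => Subtype.ext (LinearMap.ext fun x => ?_))
      (fun p q a => Subtype.ext (LinearMap.ext fun x => ?_)) fun m hm => ?_))
  · show s q a • (c : F →ₗ[R] G) x = b a c • (q : F →ₗ[R] G) x
    rw [hr', ← hl', map_smul]
  · show s q a • (p : G →ₗ[R] F) x = b p q • (a : G →ₗ[R] F) x
    rw [← map_smul, hr', hl']
  · by_contra! hJ
    haveI := faithfullyFlat_of_faithful (R := R) F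
    refine Module.FaithfullyFlat.submodule_ne_top (R := R) (M := F) hm (top_unique fun x _ => ?_)
    obtain ⟨z, rfl⟩ := (evalTwist_bijective φ.symm).2 x
    induction z using TensorProduct.induction_on with
    | zero => simp
    | add u v hu hv => rw [map_add]; exact add_mem (hu trivial) (hv trivial)
    | tmul g a =>
        rw [evalTwist_tmul]
        obtain ⟨z', rfl⟩ := (evalTwist_bijective φ).2 g
        induction z' using TensorProduct.induction_on with
        | zero => simp
        | add u v hu hv => rw [map_add, map_add]; exact add_mem (hu trivial) (hv trivial)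
        | tmul y c =>
            rw [evalTwist_tmul, ← hl']
            exact Submodule.smul_mem_smul (hJ a c) trivial

end Hom

end Groth.Agent.Azu
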