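import Groth.Agent.Azu.Morita

/-!
The commutant of an Azumaya algebra acting on a faithfully projective module, and opposites.
-/

set_option autoImplicit false

universe u v w

open scoped TensorProduct

namespace Groth.Agent.Azu

variable {R : Type u} [CommRing R]

theorem op (B : Type v) [Ring B] [Algebra R B] [IsAzumaya R B] : IsAzumaya R Bᵐᵒᵖ := by
  let o : B ≃ₗ[R] Bᵐᵒᵖ := MulOpposite.opLinearEquiv R
  haveI : Module.Projective R Bᵐᵒᵖ := Module.Projective.of_equiv o
  haveI : Module.Finite R Bᵐᵒᵖ := Module.Finite.equiv o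
  haveI : FaithfulSMul R Bᵐᵒᵖ := ⟨fun {a b} h => FaithfulSMul.eq_of_smul_eq_smul fun x : B =>
    MulOpposite.op_injective (h (MulOpposite.op x))⟩
  let sw : Bᵐᵒᵖ ⊗[R] Bᵐᵒᵖᵐᵒᵖ ≃ₗ[R] B ⊗[R] Bᵐᵒᵖ :=
    (TensorProduct.congr (LinearEquiv.refl R Bᵐᵒᵖ)
      ((MulOpposite.opLinearEquiv R : Bᵐᵒᵖ ≃ₗ[R] Bᵐᵒᵖᵐᵒᵖ).symm.trans o.symm)).trans (TensorProduct.comm R Bᵐᵒᵖ B)
  have h : (AlgHom.mulLeftRight R Bᵐᵒᵖ).toLinearMap =
      (LinearEquiv.conj o).toLinearMap ∘ₗ (AlgHom.mulLeftRight R B).toLinearMap ∘ₗ sw.toLinearMap := by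
    refine TensorProduct.ext' fun a b => LinearMap.ext fun x => ?_
    simp only [LinearMap.comp_apply, AlgHom.toLinearMap_apply, LinearEquiv.coe_coe, AlgHom.mulLeftRight_apply,
      sw, LinearEquiv.trans_apply, TensorProduct.congr_tmul, LinearEquiv.refl_apply, TensorProduct.comm_tmul,
      LinearEquiv.conj_apply]
    apply MulOpposite.unop_injective
    simp [o, mul_assoc]
  refine ⟨?_⟩
  show Function.Bijective (AlgHom.mulLeftRight R Bᵐᵒᵖ).toLinearMap
  rw [h, LinearMap.coe_comp, LinearMap.coe_comp]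
  exact (LinearEquiv.conj o).bijective.comp ((IsAzumaya.bij (R := R) (A := B)).comp sw.bijective)

theorem isCSA_right {κ : Type u} [Field κ] {C : Type v} {D : Type w} [Ring C] [Ring D] [Algebra κ C] [Algebra κ D]
    [Nontrivial C] [Module.Finite κ D] (hc : Algebra.IsCentral κ (C ⊗[κ] D)) (hs : IsSimpleRing (C ⊗[κ] D)) :
    CSA.IsCSA κ D := by
  haveI : Nontrivial (C ⊗[κ] D) := hs.instNontrivial
  haveI : Nontrivial D := by
    by_contra h
    rw [not_nontrivial_iff_subsingleton] at h
    exact not_subsingleton (C ⊗[κ] D) inferInstance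
  refine ⟨Algebra.IsCentral.right_of_tensor_of_field κ C D,
    IsSimpleRing.of_eq_bot_or_eq_top fun I => or_iff_not_imp_left.2 fun hI => ?_, inferInstance⟩
  obtain ⟨x, hx, hx0⟩ : ∃ x ∈ I, x ≠ 0 := by
    by_contra! h
    exact hI (eq_bot_iff.2 fun y hy => (TwoSidedIdeal.mem_bot D).2 (h y hy))
  obtain ⟨φ, hφ⟩ := Module.Projective.exists_dual_ne_zero (R := κ) (one_ne_zero : (1 : C) ≠ 0)
  let Is : Submodule κ D :=
    { carrier := I
      add_mem' := fun {a b} ha hb => I.add_mem ha hb
      zero_mem' := I.zero_mem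
      smul_mem' := fun c y hy => by rw [Algebra.smul_def]; exact I.mul_mem_left _ _ hy }
  let S := LinearMap.range (Is.subtype.lTensor C)
  have hmul : ∀ w, ∀ z ∈ S, w * z ∈ S ∧ z * w ∈ S := by
    rintro w _ ⟨y, rfl⟩
    induction y using TensorProduct.induction_on with
    | zero => simp
    | add u v hu hv => rw [map_add, mul_add, add_mul]; exact ⟨add_mem hu.1 hv.1, add_mem hu.2 hv.2⟩
    | tmul c i =>
      induction w using TensorProduct.induction_on with
      | zero => simp
      | add u v hu hv => rw [add_mul, mul_add]; exact ⟨add_mem hu.1 hv.1, add_mem hu.2 hv.2⟩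
      | tmul c' d' =>
        rw [LinearMap.lTensor_tmul, Submodule.coe_subtype, Algebra.TensorProduct.tmul_mul_tmul,
          Algebra.TensorProduct.tmul_mul_tmul]
        exact ⟨⟨(c' * c) ⊗ₜ ⟨d' * i, I.mul_mem_left _ _ i.2⟩, rfl⟩, ⟨(c * c') ⊗ₜ ⟨i * d', I.mul_mem_right _ _ i.2⟩, rfl⟩⟩
  let J : TwoSidedIdeal (C ⊗[κ] D) := TwoSidedIdeal.mk' S (zero_mem S) (fun h h' => add_mem h h')
    (fun h => neg_mem h) (fun {w z} hz => (hmul w z hz).1) (fun {z w} hz => (hmul w z hz).2)
  let ev : C ⊗[κ] D →ₗ[κ] D := (TensorProduct.lid κ D).toLinearMap ∘ₗ φ.rTensor D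
  have hxJ : (1 : C) ⊗ₜ[κ] x ∈ J := (TwoSidedIdeal.mem_mk' _ _ _ _ _ _ _).2 ⟨(1 : C) ⊗ₜ ⟨x, hx⟩, rfl⟩
  have hJ : J = ⊤ := (hs.simple.eq_bot_or_eq_top J).resolve_left fun h => hx0 (by
    have h0 : (1 : C) ⊗ₜ[κ] x = 0 := (TwoSidedIdeal.mem_bot _).1 (h ▸ hxJ)
    have h1 := congrArg ev h0
    simp only [ev, map_zero, LinearMap.comp_apply, LinearMap.rTensor_tmul, LinearEquiv.coe_coe,
      TensorProduct.lid_tmul] at h1
    exact (smul_eq_zero.1 h1).resolve_left hφ)
  have hev : ∀ z ∈ S, ev z ∈ I := by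
    rintro _ ⟨y, rfl⟩
    induction y using TensorProduct.induction_on with
    | zero => simp [I.zero_mem]
    | add u v hu hv => rw [map_add, map_add]; exact I.add_mem hu hv
    | tmul c i =>
      simp only [ev, LinearMap.lTensor_tmul, LinearMap.comp_apply, LinearMap.rTensor_tmul, LinearEquiv.coe_coe,
        TensorProduct.lid_tmul, Submodule.coe_subtype]
      rw [Algebra.smul_def]
      exact I.mul_mem_left _ _ i.2
  have h1 := hev 1 ((TwoSidedIdeal.mem_mk' _ _ _ _ _ _ _).1 (show (1 : C ⊗[κ] D) ∈ J by rw [hJ]; trivial))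
  simp only [ev, Algebra.TensorProduct.one_def, LinearMap.comp_apply, LinearMap.rTensor_tmul, LinearEquiv.coe_coe,
    TensorProduct.lid_tmul] at h1
  refine top_unique fun y _ => ?_
  have h2 := I.mul_mem_left (y * algebraMap κ D (φ 1)⁻¹) _ h1
  rwa [Algebra.smul_def, mul_one, mul_assoc, ← map_mul, inv_mul_cancel₀ hφ, map_one, mul_one] at h2

section Commutant

variable {A : Type v} [Ring A] [Algebra R A] {P : Type w} [AddCommGroup P] [Module R P]
  (l : A →ₐ[R] Module.End R P)

/-- Endomorphisms commuting with the action. -/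
noncomputable def commutant : Subalgebra R (Module.End R P) := Subalgebra.centralizer R (Set.range l)

theorem mem_commutant {g : Module.End R P} : g ∈ commutant l ↔ ∀ a, l a * g = g * l a := by
  simp [commutant, Subalgebra.mem_centralizer_iff]

/-- `A ⊗ (commutant) → End P`. -/
noncomputable def mulMap : A ⊗[R] commutant l →ₐ[R] Module.End R P :=
  Algebra.TensorProduct.lift l (commutant l).val fun a g => (mem_commutant l).1 g.2 a

variable [IsAzumaya R A] [Module.Finite R P] [Module.Projective R P]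

/-- `A ⊗ Aᵒᵖ` acting on `End P`. -/
noncomputable def conjAct : A ⊗[R] Aᵐᵒᵖ →ₐ[R] Module.End R (Module.End R P) :=
  (AlgHom.mulLeftRight R (Module.End R P)).comp (Algebra.TensorProduct.map l l.op)

theorem conjAct_tmul (a : A) (b : Aᵐᵒᵖ) (h : Module.End R P) : conjAct l (a ⊗ₜ b) h = l a * h * l b.unop := by
  simp [conjAct, AlgHom.mulLeftRight_apply]

theorem mem_inv_conjAct {h : Module.End R P} : h ∈ inv (conjAct l) ↔ h ∈ commutant l := by
  rw [mem_inv, mem_commutant]
  simp [conjAct_tmul]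

/-- The commutant as invariants. -/
noncomputable def commutantEquiv : commutant l ≃ₗ[R] inv (conjAct l) where
  toFun g := ⟨g, (mem_inv_conjAct l).2 g.2⟩
  invFun g := ⟨g, (mem_inv_conjAct l).1 g.2⟩
  map_add' _ _ := rfl
  map_smul' _ _ := rfl
  left_inv _ := rfl
  right_inv _ := rfl

theorem mulMap_bijective : Function.Bijective (mulMap l) := by
  have h : (mulMap l).toLinearMap = (invMul (conjAct l)) ∘ₗ
      ((TensorProduct.congr (LinearEquiv.refl R A) (commutantEquiv l)).trans (TensorProduct.comm R A _)).toLinearMap := by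
    refine TensorProduct.ext' fun a g => ?_
    simp [mulMap, invMul_tmul, conjAct_tmul, commutantEquiv]
  show Function.Bijective (mulMap l).toLinearMap
  rw [h, LinearMap.coe_comp]
  exact (invMul_bijective (conjAct l)).comp (LinearEquiv.bijective _)

theorem commutant_azumaya [FaithfulSMul R P] : IsAzumaya R (commutant l) := by
  haveI := (projective_end (R := R) P).1
  haveI := (projective_end (R := R) P).2
  haveI : Module.Finite R (inv (conjAct l)) := inv_finite _
  haveI : Module.Projective R (inv (conjAct l)) := inv_projective _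
  haveI : Module.Finite R (commutant l) := Module.Finite.equiv (commutantEquiv l).symm
  haveI : Module.Projective R (commutant l) := Module.Projective.of_equiv (commutantEquiv l).symm
  haveI := moduleEnd (R := R) P
  haveI : IsAzumaya R (A ⊗[R] commutant l) :=
    IsAzumaya.of_AlgEquiv (R := R) _ _ (AlgEquiv.ofBijective (mulMap l) (mulMap_bijective l)).symm
  refine of_fibres fun p hp => ?_
  letI := Ideal.Quotient.field p
  let κ := R ⧸ p
  haveI := baseChange (R := R) (A := A) κ
  haveI := baseChange (R := R) (A := A ⊗[R] commutant l) κ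
  haveI : Module.Finite κ (κ ⊗[R] commutant l) := inferInstance
  obtain ⟨e⟩ := nonempty_distribBaseChange (R := R) (A := A) (commutant l) κ
  obtain ⟨hc, hs, -⟩ := (isCSA (k := κ) (D := κ ⊗[R] (A ⊗[R] commutant l))).of_algEquiv e
  obtain ⟨-, hsA, -⟩ := isCSA (k := κ) (D := κ ⊗[R] A)
  haveI : Nontrivial (κ ⊗[R] A) := hsA.instNontrivial
  exact of_isCSA (isCSA_right hc hs)

end Commutant

end Groth.Agent.Azu
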