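import Groth.Agent.Azu.CharpolyDescent
import Groth.Agent.S5720
import Mathlib.RingTheory.TensorProduct.Pi
import Mathlib.RingTheory.Spectrum.Prime.FreeLocus
import Mathlib.LinearAlgebra.TensorProduct.Pi

/-!
Global faithfully flat splitting of an Azumaya algebra of constant rank, and the reduced trace.
-/

set_option autoImplicit false

universe u

open scoped TensorProduct

namespace Groth.Agent.Azu

theorem exists_split {R : Type u} [CommRing R] (A : Type u) [Ring A] [Algebra R A] [IsAzumaya R A] {n : ℕ}
    (hrk : ∀ p : PrimeSpectrum R, Module.rankAtStalk (R := R) A p = n ^ 2) :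
    ∃ (S : Type u) (_ : CommRing S) (_ : Algebra R S) (_ : Module.FaithfullyFlat R S),
      Nonempty ((S ⊗[R] A) ≃ₐ[S] Matrix (Fin n) (Fin n) S) := by
  classical
  let P : R → Prop := fun f => ∃ (R' : Type u) (_ : CommRing R') (_ : Algebra R R') (_ : Module.Flat R R'),
    (∀ m : Ideal R, m.IsMaximal → f ∉ m → m • (⊤ : Submodule R R') ≠ ⊤) ∧
      Nonempty ((R' ⊗[R] A) ≃ₐ[R'] Matrix (Fin n) (Fin n) R')
  have hspan : Ideal.span {f | P f} = ⊤ := by
    by_contra hne
    obtain ⟨p, hp, hle⟩ := Ideal.exists_le_maximal _ hne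
    haveI := hp.isPrime
    obtain ⟨f, hf, R', _, _, _, hT, -, -, hff, r, -, ⟨φ⟩⟩ := Groth.Agent.S5720.result R A p
    refine hf (hle (Ideal.subset_span ⟨R', inferInstance, inferInstance, ?_, ?_, ?_⟩))
    · haveI := hff
      exact Module.Flat.trans R (Localization.Away f) R'
    · intro m hm hfm htop
      haveI := hff
      have hdisj : Disjoint (Submonoid.powers f : Set R) (m : Set R) := Set.disjoint_left.2 fun x ⟨i, hi⟩ hx =>
        hfm (hm.isPrime.mem_of_pow_mem i (by rw [show f ^ i = x from hi]; exact hx))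
      have hpr := IsLocalization.isPrime_of_isPrime_disjoint (Submonoid.powers f) (Localization.Away f) m hm.isPrime hdisj
      obtain ⟨M, hM, hmM⟩ := Ideal.exists_le_maximal _ hpr.ne_top
      refine Module.FaithfullyFlat.submodule_ne_top (R := Localization.Away f) (M := R') hM (top_unique fun x _ => ?_)
      have hx : x ∈ m • (⊤ : Submodule R R') := htop.ge trivial
      refine Submodule.smul_induction_on hx (fun c hc y _ => ?_) (fun y z hy hz => add_mem hy hz)
      rw [← algebraMap_smul (Localization.Away f) c y]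
      exact Submodule.smul_mem_smul (hmM (Ideal.mem_map_of_mem _ hc)) trivial
    · have hnt : Nontrivial R' := by
        haveI := hff
        haveI : Nontrivial (Localization.Away f) := by
          have hpr := IsLocalization.isPrime_of_isPrime_disjoint (Submonoid.powers f) (Localization.Away f) p
            (inferInstance) (Set.disjoint_left.2 fun x ⟨i, hi⟩ hx =>
              hf (hp.isPrime.mem_of_pow_mem i (by rw [show f ^ i = x from hi]; exact hx)))
          exact ⟨⟨0, 1, fun h => hpr.ne_top ((Ideal.eq_top_iff_one _).2 (h ▸ zero_mem _))⟩⟩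
        by_contra h
        rw [not_nontrivial_iff_subsingleton] at h
        obtain ⟨M, hM⟩ := Ideal.exists_maximal (Localization.Away f)
        exact Module.FaithfullyFlat.submodule_ne_top (R := Localization.Away f) (M := R') hM (Subsingleton.elim _ _)
      obtain ⟨q⟩ : Nonempty (PrimeSpectrum R') := inferInstance
      have h := congrFun (Module.rankAtStalk_eq_of_equiv φ.toLinearEquiv) q
      rw [Module.rankAtStalk_baseChange, hrk, Module.rankAtStalk_eq_finrank_of_free, Pi.natCast_apply, Nat.cast_id,
        Module.finrank_matrix, Module.finrank_self, Fintype.card_fin, mul_one, ← sq] at h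
      obtain rfl : n = r := Nat.pow_left_injective two_ne_zero h
      exact ⟨φ⟩
  obtain ⟨t, ht, htop⟩ := (Ideal.span_eq_top_iff_finite _).1 hspan
  choose R' iC iA hflat hne hφ using fun i : t => ht i.2
  let φ : ∀ i, (R' i ⊗[R] A) ≃ₐ[R' i] Matrix (Fin n) (Fin n) (R' i) := fun i => (hφ i).some
  let S := ∀ i, R' i
  haveI : Module.Flat R S :=
    Module.Flat.of_linearEquiv (DirectSum.linearEquivFunOnFintype R t R').symm
  haveI : Module.FaithfullyFlat R S := ⟨fun m hm h => by
    obtain ⟨i, hi⟩ : ∃ i : t, (i : R) ∉ m := by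
      by_contra! hall
      exact hm.ne_top (top_unique (htop ▸ Ideal.span_le.2 fun x hx => hall ⟨x, hx⟩))
    refine hne i m hm hi (top_unique fun x _ => ?_)
    have hx : (Pi.single i x : S) ∈ m • (⊤ : Submodule R S) := h.ge trivial
    have hmem := Submodule.mem_map_of_mem (f := (LinearMap.proj i : S →ₗ[R] R' i)) hx
    rw [Submodule.map_smul''] at hmem
    rw [LinearMap.proj_apply, Pi.single_eq_same] at hmem
    exact Submodule.smul_mono le_rfl le_top hmem⟩
  let spl : Matrix (Fin n) (Fin n) S →ₐ[R] ∀ i, Matrix (Fin n) (Fin n) (R' i) :=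
    Pi.algHom R _ fun i => (Pi.evalAlgHom R R' i).mapMatrix
  have hspl : Function.Bijective spl := Function.bijective_iff_has_inverse.2
    ⟨fun M => Matrix.of fun p q i => M i p q, fun N => rfl, fun M => rfl⟩
  let e := (AlgEquiv.ofBijective spl hspl).symm
  let f₀ : A →ₐ[R] Matrix (Fin n) (Fin n) S :=
    e.toAlgHom.comp (Pi.algHom R _ fun i =>
      ((φ i).restrictScalars R).toAlgHom.comp Algebra.TensorProduct.includeRight)
  let F : S ⊗[R] A →ₐ[S] Matrix (Fin n) (Fin n) S :=
    Algebra.TensorProduct.lift (Algebra.ofId S _) f₀ fun c a => Algebra.commutes c _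
  refine ⟨S, inferInstance, inferInstance, inferInstance, ⟨AlgEquiv.ofBijective F ?_⟩⟩
  have hF : ∀ z, spl (F z) = fun i => φ i (TensorProduct.piLeft (R := R) (M := R') (N := A) z i) := fun z => by
    induction z using TensorProduct.induction_on with
    | zero => funext i; simp
    | add a b ha hb => funext i; rw [map_add, map_add, ha, hb]; simp
    | tmul s a =>
      funext i
      have hpl : TensorProduct.piLeft (R := R) (M := R') (N := A) (s ⊗ₜ a) i = s i • ((1 : R' i) ⊗ₜ a) := by
        simp [TensorProduct.smul_tmul']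
      rw [hpl, map_smul, Algebra.TensorProduct.lift_tmul, map_mul, Pi.mul_apply]
      have hf : spl (f₀ a) i = φ i (1 ⊗ₜ a) := congrFun ((AlgEquiv.ofBijective spl hspl).apply_symm_apply _) i
      rw [hf]
      have hd : spl (Algebra.ofId S (Matrix (Fin n) (Fin n) S) s) i = algebraMap (R' i) _ (s i) := by
        ext p q
        show (algebraMap S (Matrix (Fin n) (Fin n) S) s p q) i = _
        by_cases h : p = q <;> simp [Matrix.algebraMap_matrix_apply, h] <;> rfl
      rw [hd, ← Algebra.smul_def]
  have hb : Function.Bijective (spl ∘ F) := by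
    rw [show (spl ∘ F : S ⊗[R] A → _) = (fun z i => φ i (z i)) ∘ TensorProduct.piLeft (R := R) (M := R') (N := A) from funext hF]
    exact (Function.Bijective.piMap fun i => (φ i).bijective).comp (LinearEquiv.bijective _)
  exact ⟨Function.Injective.of_comp hb.1, fun M => by
    obtain ⟨z, hz⟩ := hb.2 (spl M)
    exact ⟨z, hspl.1 hz⟩⟩

theorem exists_redTrace {R : Type u} [CommRing R] {A : Type u} [Ring A] [Algebra R A] {n : ℕ}
    {S : Type u} [CommRing S] [Algebra R S] [Module.FaithfullyFlat R S]
    (φ : (S ⊗[R] A) ≃ₐ[S] Matrix (Fin n) (Fin n) S) :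
    ∃ t : A →ₗ[R] R, ∀ a, algebraMap R S (t a) = (φ (1 ⊗ₜ a)).trace := by
  classical
  rcases subsingleton_or_nontrivial S with hS | hS
  · exact ⟨0, fun a => Subsingleton.elim _ _⟩
  have h : ∀ a, ∃ r, algebraMap R S r = (φ (1 ⊗ₜ a)).trace := fun a => by
    rcases Nat.eq_zero_or_pos n with rfl | hn
    · exact ⟨0, by simp [Matrix.trace]⟩
    haveI : Nonempty (Fin n) := ⟨⟨0, hn⟩⟩
    obtain ⟨p, hp, -⟩ := exists_charpoly_descent φ a
    refine ⟨-p.coeff (Fintype.card (Fin n) - 1), ?_⟩
    rw [map_neg, ← Polynomial.coeff_map, hp, Matrix.trace_eq_neg_charpoly_coeff]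
  choose t ht using h
  have hinj : Function.Injective (algebraMap R S) := FaithfulSMul.algebraMap_injective R S
  refine ⟨{ toFun := t, map_add' := fun a b => hinj ?_, map_smul' := fun r a => hinj ?_ }, ht⟩
  · rw [map_add, ht, ht, ht, TensorProduct.tmul_add, map_add, Matrix.trace_add]
  · rw [RingHom.id_apply, smul_eq_mul, map_mul, ht, ht, TensorProduct.tmul_smul, ← algebraMap_smul S r,
      map_smul, Matrix.trace_smul, smul_eq_mul]

end Groth.Agent.Azu
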