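import Groth.Agent.Azu.LGSurj
import Groth.Agent.Azu.Twist

/-!
Cancellation for Azumaya algebras over LG-rings.
-/

set_option autoImplicit false

universe u v w x

open scoped TensorProduct

namespace Groth.Agent.Azu

variable {R : Type u} [CommRing R]

theorem rankAtStalk_moduleEnd (P : Type v) [AddCommGroup P] [Module R P] [Module.Finite R P] [Module.Projective R P]
    (p : PrimeSpectrum R) :
    Module.rankAtStalk (Module.End R P) p = Module.rankAtStalk P p * Module.rankAtStalk P p := by
  haveI := (projective_end (R := R) P).1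
  haveI := (projective_end (R := R) P).2
  rw [Module.rankAtStalk_eq, Module.rankAtStalk_eq]
  show Module.finrank p.asIdeal.ResidueField (p.asIdeal.ResidueField ⊗[R] Module.End R P) =
    Module.finrank p.asIdeal.ResidueField (p.asIdeal.ResidueField ⊗[R] P) *
      Module.finrank p.asIdeal.ResidueField (p.asIdeal.ResidueField ⊗[R] P)
  rw [(endBCEquiv p.asIdeal.ResidueField P).toLinearEquiv.finrank_eq, Module.finrank_linearMap]

theorem rankAtStalk_pos_of_faithful (P : Type v) [AddCommGroup P] [Module R P] [Module.Finite R P] [Module.Projective R P]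
    [FaithfulSMul R P] (p : PrimeSpectrum R) : 0 < Module.rankAtStalk P p := by
  haveI := faithfullyFlat_of_faithful (R := R) P
  rw [Module.rankAtStalk_eq]
  show 0 < Module.finrank p.asIdeal.ResidueField (p.asIdeal.ResidueField ⊗[R] P)
  exact Module.finrank_pos

/-- Two surjections force an isomorphism. -/
theorem nonempty_linearEquiv_of_rank_eq (hR : LGRing.IsLGRing R) {A : Type v} [Ring A] [Algebra R A] [IsAzumaya R A]
    (M : Type w) (N : Type x) [AddCommGroup M] [Module A M] [Module R M] [IsScalarTower R A M] [Module.Finite A M]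
    [Module.Projective A M] [AddCommGroup N] [Module A N] [Module R N] [IsScalarTower R A N]
    [Module.Finite A N] [Module.Projective A N]
    (h : ∀ p : PrimeSpectrum R, Module.rankAtStalk M p = Module.rankAtStalk N p) : Nonempty (M ≃ₗ[A] N) := by
  obtain ⟨f, hf⟩ := exists_surjective_of_rank_le (A := A) hR M N fun p => (h p).ge
  obtain ⟨g, hg⟩ := exists_surjective_of_rank_le (A := A) hR N M fun p => (h p).le
  haveI : Module.Finite R M := Module.Finite.trans A M
  have hinj : Function.Injective ((g ∘ₗ f).restrictScalars R) :=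
    OrzechProperty.injective_of_surjective_endomorphism _ (hg.comp hf)
  exact ⟨LinearEquiv.ofBijective f ⟨fun a b hab => hinj (congrArg g hab), hf⟩⟩

section Cancel

variable {A : Type v} [Ring A] [Algebra R A] (P : Type w) [AddCommGroup P] [Module R P]

/-- `A ⊗ End P` acting on `A ⊗ P`. -/
noncomputable def regAct : A ⊗[R] Module.End R P →ₐ[R] Module.End R (A ⊗[R] P) :=
  (Module.endTensorEndAlgHom : Module.End R A ⊗[R] Module.End R P →ₐ[R] Module.End R (A ⊗[R] P)).comp
    (Algebra.TensorProduct.map (Algebra.lmul R A) (AlgHom.id R (Module.End R P)))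

theorem regAct_tmul (a a' : A) (f : Module.End R P) (q : P) : regAct P (a ⊗ₜ f) (a' ⊗ₜ q) = (a * a') ⊗ₜ f q := by
  simp [regAct, Module.endTensorEndAlgHom_apply]

/-- Right multiplication by `c` on `A ⊗ P`. -/
noncomputable def rmulT (c : A) : Module.End R (A ⊗[R] P) := (LinearMap.mulRight R c).rTensor P

theorem rmulT_comm (c : A) (t : A ⊗[R] Module.End R P) (z : A ⊗[R] P) :
    rmulT P c (regAct P t z) = regAct P t (rmulT P c z) := by
  induction t using TensorProduct.induction_on with
  | zero => simp
  | add s t hs ht => simp only [map_add, LinearMap.add_apply, hs, ht]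
  | tmul a f =>
    induction z using TensorProduct.induction_on with
    | zero => simp
    | add s t hs ht => simp only [map_add, hs, ht]
    | tmul a' q => simp [rmulT, regAct_tmul, mul_assoc]

variable [Module.Finite R P] [Module.Projective R P] [FaithfulSMul R P]

theorem exists_regAct_section : ∃ (L : ℕ) (ψ : Fin L → P →ₗ[R] R) (q : Fin L → P), ∑ l, ψ l (q l) = 1 := by
  have h := (Ideal.eq_top_iff_one _).1 (dual_smul_top (R := R) (F := P))
  obtain ⟨L, f, g, hs⟩ := Submodule.mem_span_set'.1 h
  choose ψ q hq using fun l => (g l).2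
  refine ⟨L, fun l => f l • ψ l, q, ?_⟩
  simp only [LinearMap.smul_apply, hq]
  exact hs

theorem rmulT_bijective (g : Module.End R (A ⊗[R] P)) (hg : ∀ t z, g (regAct P t z) = regAct P t (g z)) :
    ∃! c : A, rmulT P c = g := by
  obtain ⟨L, ψ, q, hψ⟩ := exists_regAct_section (R := R) P
  let cf : Fin L → A ⊗[R] P →ₗ[R] A := fun l =>
    (TensorProduct.rid R A).toLinearMap ∘ₗ (ψ l).lTensor A
  have hcf : ∀ l (a : A) (p : P) (z : A ⊗[R] P),
      regAct P (a ⊗ₜ (ψ l).smulRight p) z = (a * cf l z) ⊗ₜ p := fun l a p z => by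
    induction z using TensorProduct.induction_on with
    | zero => simp
    | add s t hs ht => simp only [map_add, hs, ht, mul_add, TensorProduct.add_tmul]
    | tmul a' q' =>
      simp only [regAct_tmul, cf, LinearMap.comp_apply, LinearEquiv.coe_coe, LinearMap.lTensor_tmul,
        TensorProduct.rid_tmul, LinearMap.smulRight_apply, mul_smul_comm, TensorProduct.smul_tmul]
  have huniq : ∀ c : A, ∑ l, cf l (rmulT P c ((1 : A) ⊗ₜ q l)) = c := fun c => by
    simp only [cf, rmulT, LinearMap.comp_apply, LinearEquiv.coe_coe, LinearMap.rTensor_tmul, LinearMap.lTensor_tmul,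
      TensorProduct.rid_tmul, LinearMap.mulRight_apply, one_mul]
    rw [← Finset.sum_smul, hψ, one_smul]
  refine ⟨∑ l, cf l (g ((1 : A) ⊗ₜ q l)), ?_, fun c hc => ?_⟩
  · refine TensorProduct.ext' fun a p => ?_
    have h : (a ⊗ₜ[R] p : A ⊗[R] P) = ∑ l, regAct P (a ⊗ₜ (ψ l).smulRight p) ((1 : A) ⊗ₜ q l) := by
      simp only [regAct_tmul, LinearMap.smulRight_apply, mul_one]
      rw [← TensorProduct.tmul_sum, ← Finset.sum_smul, hψ, one_smul]
    conv_rhs => rw [h, map_sum]
    simp only [hg]
    simp only [hcf]
    rw [rmulT, LinearMap.rTensor_tmul, LinearMap.mulRight_apply, Finset.mul_sum, TensorProduct.sum_tmul]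
  · rw [← hc, huniq]

end Cancel

theorem nonempty_algEquiv_of_tensor_end (hR : LGRing.IsLGRing R) {A : Type v} {B : Type v} [Ring A] [Algebra R A]
    [IsAzumaya R A] [Ring B] [Algebra R B] [IsAzumaya R B]
    (P : Type w) (Q : Type w) [AddCommGroup P] [Module R P] [Module.Finite R P] [Module.Projective R P]
    [FaithfulSMul R P] [AddCommGroup Q] [Module R Q] [Module.Finite R Q] [Module.Projective R Q] [FaithfulSMul R Q]
    (hrk : ∀ p : PrimeSpectrum R, Module.rankAtStalk A p = Module.rankAtStalk B p)
    (e : A ⊗[R] Module.End R P ≃ₐ[R] B ⊗[R] Module.End R Q) : Nonempty (A ≃ₐ[R] B) := by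
  classical
  haveI := moduleEnd (R := R) P
  haveI := moduleEnd (R := R) Q
  haveI := tensor (R := R) (A := A) (Module.End R P)
  let Λ := A ⊗[R] Module.End R P
  let ρB : Λ →ₐ[R] Module.End R (B ⊗[R] Q) := (regAct Q).comp e.toAlgHom
  letI : Module Λ (A ⊗[R] P) := Module.compHom _ (regAct (A := A) P).toRingHom
  letI : Module Λ (B ⊗[R] Q) := Module.compHom _ ρB.toRingHom
  haveI : IsScalarTower R Λ (A ⊗[R] P) := ⟨fun c a y => by
    show regAct P (c • a) y = c • regAct P a y
    rw [map_smul, LinearMap.smul_apply]⟩
  haveI : IsScalarTower R Λ (B ⊗[R] Q) := ⟨fun c a y => by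
    show ρB (c • a) y = c • ρB a y
    rw [map_smul, LinearMap.smul_apply]⟩
  haveI : Module.Finite Λ (A ⊗[R] P) := Module.Finite.of_restrictScalars_finite R Λ _
  haveI : Module.Finite Λ (B ⊗[R] Q) := Module.Finite.of_restrictScalars_finite R Λ _
  haveI : Module.Projective Λ (A ⊗[R] P) := by
    obtain ⟨L, ψ, q, hψ⟩ := exists_regAct_section (R := R) P
    let i₀ : A ⊗[R] P →ₗ[R] (Fin L → Λ) := LinearMap.pi fun l =>
      (((LinearMap.smulRightₗ (R := R) (M := P) (M₂ := P)) (ψ l)).lTensor A)
    have hi : ∀ (a : A) (p : P) l, i₀ (a ⊗ₜ p) l = a ⊗ₜ[R] (ψ l).smulRight p := fun a p l => rfl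
    let i : A ⊗[R] P →ₗ[Λ] (Fin L → Λ) :=
      { i₀ with
        map_smul' := fun t z => by
          show i₀ (regAct P t z) = t • i₀ z
          induction t using TensorProduct.induction_on with
          | zero =>
            funext l
            simp only [map_zero, LinearMap.zero_apply, Pi.zero_apply, Pi.smul_apply, smul_eq_mul, zero_mul]
          | add s t hs ht => simp only [map_add, LinearMap.add_apply, hs, ht, add_smul]
          | tmul a f =>
            induction z using TensorProduct.induction_on with
            | zero => simp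
            | add s t hs ht => simp only [map_add, hs, ht, smul_add]
            | tmul a' p =>
              funext l
              rw [regAct_tmul, hi, Pi.smul_apply, hi, smul_eq_mul, Algebra.TensorProduct.tmul_mul_tmul]
              congr 1
              ext y
              simp }
    let s : (Fin L → Λ) →ₗ[Λ] A ⊗[R] P :=
      ∑ l, (LinearMap.toSpanSingleton Λ (A ⊗[R] P) ((1 : A) ⊗ₜ q l)).comp (LinearMap.proj l)
    refine Module.Projective.of_split i s (LinearMap.ext fun z => ?_)
    show s (i₀ z) = z
    simp only [s, LinearMap.sum_apply, LinearMap.comp_apply, LinearMap.proj_apply, LinearMap.toSpanSingleton_apply]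
    show ∑ l, regAct P (i₀ z l) ((1 : A) ⊗ₜ q l) = z
    induction z using TensorProduct.induction_on with
    | zero => simp
    | add u v hu hv =>
      simp only [map_add, Pi.add_apply, LinearMap.add_apply, Finset.sum_add_distrib, hu, hv]
    | tmul a p =>
      simp only [hi, regAct_tmul, LinearMap.smulRight_apply, mul_one]
      rw [← TensorProduct.tmul_sum, ← Finset.sum_smul, hψ, one_smul]
  haveI : Module.Projective Λ (B ⊗[R] Q) := by
    obtain ⟨L, ψ, q, hψ⟩ := exists_regAct_section (R := R) Q
    let i₀ : B ⊗[R] Q →ₗ[R] (Fin L → Λ) := LinearMap.pi fun l =>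
      e.symm.toLinearMap ∘ₗ (((LinearMap.smulRightₗ (R := R) (M := Q) (M₂ := Q)) (ψ l)).lTensor B)
    have hi : ∀ (a : B) (p : Q) l, i₀ (a ⊗ₜ p) l = e.symm (a ⊗ₜ[R] (ψ l).smulRight p) := fun a p l => rfl
    let i : B ⊗[R] Q →ₗ[Λ] (Fin L → Λ) :=
      { i₀ with
        map_smul' := fun t z => by
          show i₀ (regAct Q (e t) z) = t • i₀ z
          obtain ⟨t, rfl⟩ := e.symm.surjective t
          rw [e.apply_symm_apply]
          induction t using TensorProduct.induction_on with
          | zero =>
            funext l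
            simp only [map_zero, LinearMap.zero_apply, Pi.zero_apply, Pi.smul_apply, smul_eq_mul, zero_mul]
          | add s t hs ht => simp only [map_add, LinearMap.add_apply, hs, ht, add_smul]
          | tmul a f =>
            induction z using TensorProduct.induction_on with
            | zero => simp
            | add s t hs ht => simp only [map_add, hs, ht, smul_add]
            | tmul a' p =>
              funext l
              rw [regAct_tmul, hi, Pi.smul_apply, hi, smul_eq_mul, ← map_mul, Algebra.TensorProduct.tmul_mul_tmul]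
              congr 2
              ext y
              simp }
    let s : (Fin L → Λ) →ₗ[Λ] B ⊗[R] Q :=
      ∑ l, (LinearMap.toSpanSingleton Λ (B ⊗[R] Q) ((1 : B) ⊗ₜ q l)).comp (LinearMap.proj l)
    refine Module.Projective.of_split i s (LinearMap.ext fun z => ?_)
    show s (i₀ z) = z
    simp only [s, LinearMap.sum_apply, LinearMap.comp_apply, LinearMap.proj_apply, LinearMap.toSpanSingleton_apply]
    show ∑ l, regAct Q (e (i₀ z l)) ((1 : B) ⊗ₜ q l) = z
    induction z using TensorProduct.induction_on with
    | zero => simp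
    | add u v hu hv =>
      simp only [map_add, Pi.add_apply, LinearMap.add_apply, Finset.sum_add_distrib, hu, hv]
    | tmul a p =>
      simp only [hi, AlgEquiv.apply_symm_apply, regAct_tmul, LinearMap.smulRight_apply, mul_one]
      rw [← TensorProduct.tmul_sum, ← Finset.sum_smul, hψ, one_smul]
  have hPQ : ∀ p, Module.rankAtStalk (R := R) P p = Module.rankAtStalk Q p := fun p => by
    haveI := (projective_end (R := R) P).1
    haveI := (projective_end (R := R) P).2
    haveI := (projective_end (R := R) Q).1
    haveI := (projective_end (R := R) Q).2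
    have h := congrFun (Module.rankAtStalk_eq_of_equiv e.toLinearEquiv) p
    rw [Module.rankAtStalk_tensorProduct, Module.rankAtStalk_tensorProduct, Pi.mul_apply, Pi.mul_apply, hrk,
      rankAtStalk_moduleEnd, rankAtStalk_moduleEnd] at h
    exact Nat.mul_self_inj.1 (Nat.eq_of_mul_eq_mul_left (rankAtStalk_pos_of_faithful B p) h)
  obtain ⟨θ⟩ := nonempty_linearEquiv_of_rank_eq hR (A := Λ) (A ⊗[R] P) (B ⊗[R] Q) fun p => by
    rw [Module.rankAtStalk_tensorProduct, Module.rankAtStalk_tensorProduct, Pi.mul_apply, Pi.mul_apply, hrk, hPQ]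
  let θR := θ.restrictScalars R
  have hθ : ∀ t z, θR (regAct P t z) = regAct Q (e t) (θR z) := fun t z => θ.map_smul t z
  have hθ' : ∀ t z, θR.symm (regAct Q t z) = regAct P (e.symm t) (θR.symm z) := fun t z => by
    apply θR.injective
    rw [hθ, θR.apply_symm_apply, θR.apply_symm_apply, e.apply_symm_apply]
  have hfwd : ∀ c : A, ∃! d : B, rmulT Q d = θR.toLinearMap ∘ₗ rmulT P c ∘ₗ θR.symm.toLinearMap := fun c =>
    rmulT_bijective Q _ fun t z => by
      simp only [LinearMap.comp_apply, LinearEquiv.coe_coe, hθ', rmulT_comm, hθ, e.apply_symm_apply]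
  have hbwd : ∀ d : B, ∃! c : A, rmulT P c = θR.symm.toLinearMap ∘ₗ rmulT Q d ∘ₗ θR.toLinearMap := fun d =>
    rmulT_bijective P _ fun t z => by
      simp only [LinearMap.comp_apply, LinearEquiv.coe_coe, hθ, rmulT_comm, hθ', e.symm_apply_apply]
  choose F hF hFu using hfwd
  choose G hG hGu using hbwd
  let Flin : A →ₗ[R] B :=
    { toFun := F
      map_add' := fun a b => (hFu _ _ (TensorProduct.ext' fun a' q => by
        have ha := LinearMap.congr_fun (hF a) (a' ⊗ₜ q)
        have hb := LinearMap.congr_fun (hF b) (a' ⊗ₜ q)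
        simp only [rmulT, LinearMap.rTensor_tmul, LinearMap.mulRight_apply, LinearMap.comp_apply] at ha hb ⊢
        rw [mul_add, TensorProduct.add_tmul, ha, hb]
        rw [show LinearMap.mulRight R (a + b) = LinearMap.mulRight R a + LinearMap.mulRight R b by ext; simp [mul_add],
          LinearMap.rTensor_add, LinearMap.add_apply, map_add])).symm
      map_smul' := fun r a => (hFu _ _ (TensorProduct.ext' fun a' q => by
        have ha := LinearMap.congr_fun (hF a) (a' ⊗ₜ q)
        simp only [rmulT, LinearMap.rTensor_tmul, LinearMap.mulRight_apply, LinearMap.comp_apply, RingHom.id_apply] at ha ⊢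
        rw [mul_smul_comm, ← TensorProduct.smul_tmul', ha,
          show LinearMap.mulRight R (r • a) = r • LinearMap.mulRight R a by ext; simp,
          LinearMap.rTensor_smul, LinearMap.smul_apply, map_smul])).symm }
  refine ⟨AlgEquiv.ofBijective (AlgHom.ofLinearMap Flin ?_ ?_) ?_⟩
  · refine (hFu _ _ ?_).symm
    simp [rmulT, LinearMap.mulRight_one, LinearMap.rTensor_id]
  · intro a b
    refine (hFu _ _ ?_).symm
    refine LinearMap.ext fun z => ?_
    simp only [rmulT, LinearMap.mulRight_mul, LinearMap.rTensor_comp]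
    show rmulT Q (F b) (rmulT Q (F a) z) = θR (rmulT P b (rmulT P a (θR.symm z)))
    rw [hF a, hF b]
    simp
  · refine Function.bijective_iff_has_inverse.2 ⟨G, fun a => (hGu _ _ ?_).symm, fun b => (hFu _ _ ?_).symm⟩
    · show rmulT P a = _ ∘ₗ rmulT Q (F a) ∘ₗ _
      rw [hF a]
      ext z
      simp
    · show rmulT Q b = _ ∘ₗ rmulT P (G b) ∘ₗ _
      rw [hG b]
      ext z
      simp

end Groth.Agent.Azu
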