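import Groth.Agent.Azu.Morita
import Groth.Prelude.Def_W4c4lgringredgrpLG
import Mathlib.RingTheory.SimpleModule.WedderburnArtin
import Mathlib.RingTheory.Spectrum.Prime.FreeLocus
import Mathlib.LinearAlgebra.TensorProduct.Quotient

/-!
Over an LG-ring, surjections between finite projective modules over an algebra are detected residually; for modules
over an Azumaya algebra they exist as soon as the ranks allow it.
-/

set_option autoImplicit false

universe u v w x

open scoped TensorProduct

namespace Groth.Agent.Azu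

theorem exists_surjective_of_finrank_le {κ : Type u} [Field κ] {B : Type v} [Ring B] [Algebra κ B] [IsSimpleRing B]
    [Module.Finite κ B] (V : Type w) (W : Type x) [AddCommGroup V] [Module B V] [Module κ V] [IsScalarTower κ B V]
    [Module.Finite κ V] [AddCommGroup W] [Module B W] [Module κ W] [IsScalarTower κ B W] [Module.Finite κ W]
    (h : Module.finrank κ W ≤ Module.finrank κ V) : ∃ f : V →ₗ[B] W, Function.Surjective f := by
  classical
  rcases subsingleton_or_nontrivial W with hW | hW
  · exact ⟨0, fun w => ⟨0, Subsingleton.elim _ _⟩⟩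
  haveI : IsArtinianRing B := IsArtinianRing.of_finite κ B
  haveI : IsSemisimpleRing B := inferInstance
  haveI : Module.Finite B V := Module.Finite.of_restrictScalars_finite κ B V
  haveI : Module.Finite B W := Module.Finite.of_restrictScalars_finite κ B W
  have hV : Nontrivial V := Module.nontrivial_of_finrank_pos (R := κ)
    (lt_of_lt_of_le (Module.finrank_pos (R := κ) (M := W)) h)
  obtain ⟨a, _, S, hS, ⟨eV⟩⟩ := (IsSimpleRing.isIsotypic B V).linearEquiv_fun
  obtain ⟨b, _, T, hT, ⟨eW⟩⟩ := (IsSimpleRing.isIsotypic B W).linearEquiv_fun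
  obtain ⟨eST⟩ : Nonempty (T ≃ₗ[B] S) := by
    have hiso := IsSimpleRing.isIsotypic B (V × W)
    let eS := S.equivMapOfInjective (LinearMap.inl B V W) LinearMap.inl_injective
    let eT := T.equivMapOfInjective (LinearMap.inr B V W) LinearMap.inr_injective
    haveI : IsSimpleModule B (S.map (LinearMap.inl B V W)) := IsSimpleModule.congr eS.symm
    haveI : IsSimpleModule B (T.map (LinearMap.inr B V W)) := IsSimpleModule.congr eT.symm
    obtain ⟨e⟩ := hiso (S.map (LinearMap.inl B V W)) (T.map (LinearMap.inr B V W))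
    exact ⟨eT.trans (e.trans eS.symm)⟩
  let eW' : W ≃ₗ[B] (Fin b → S) := eW.trans (LinearEquiv.piCongrRight fun _ => eST)
  haveI : Module.Finite κ S := Module.Finite.of_injective (S.subtype.restrictScalars κ) Subtype.val_injective
  have hba : b ≤ a := by
    have h1 : Module.finrank κ V = a * Module.finrank κ S := by
      rw [(eV.restrictScalars κ).finrank_eq, Module.finrank_pi_fintype]; simp
    have h2 : Module.finrank κ W = b * Module.finrank κ S := by
      rw [(eW'.restrictScalars κ).finrank_eq, Module.finrank_pi_fintype]; simp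
    haveI : Nontrivial S := IsSimpleModule.nontrivial B S
    rw [h1, h2] at h
    exact Nat.le_of_mul_le_mul_right h Module.finrank_pos
  refine ⟨eW'.symm.toLinearMap ∘ₗ (LinearMap.funLeft B S (Fin.castLE hba)) ∘ₗ eV.toLinearMap, ?_⟩
  exact eW'.symm.surjective.comp
    ((LinearMap.funLeft_surjective_of_injective B S _ (Fin.castLE_injective hba)).comp eV.surjective)

section LG

variable {R : Type u} [CommRing R] {A : Type v} [Ring A] [Algebra R A]

/-- Finitely many generators of the module of homomorphisms. -/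
theorem exists_hom_generators (M : Type w) (N : Type x) [AddCommGroup M] [Module A M] [Module R M]
    [IsScalarTower R A M] [Module.Finite A M] [Module.Projective A M] [AddCommGroup N] [Module A N] [Module R N]
    [IsScalarTower R A N] [Module.Finite R N] :
    ∃ (p : ℕ) (f : Fin p → M →ₗ[A] N), ∀ g : M →ₗ[A] N, ∃ c : Fin p → R, ∑ i, c i • f i = g := by
  classical
  obtain ⟨r, π, hπ⟩ := Module.Finite.exists_fin' A M
  obtain ⟨s, hs⟩ := Module.projective_lifting_property π LinearMap.id hπ
  obtain ⟨q, gen, hgen⟩ := Module.Finite.exists_fin (R := R) (M := N)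
  let T : Fin r → Fin q → (M →ₗ[A] N) := fun j l =>
    ((LinearMap.toSpanSingleton A N (gen l)).comp (LinearMap.proj j)).comp s
  refine ⟨r * q, fun i => T (finProdFinEquiv.symm i).1 (finProdFinEquiv.symm i).2, fun g => ?_⟩
  choose c hc using fun j => (Submodule.mem_span_range_iff_exists_fun R).1
    (hgen.symm ▸ Submodule.mem_top : g (π (Pi.single j 1)) ∈ Submodule.span R (Set.range gen))
  refine ⟨fun i => c (finProdFinEquiv.symm i).1 (finProdFinEquiv.symm i).2, LinearMap.ext fun m => ?_⟩
  have hm : π (s m) = m := LinearMap.congr_fun hs m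
  rw [LinearMap.sum_apply, finProdFinEquiv.symm.sum_comp (fun z => (c z.1 z.2 • T z.1 z.2) m), Fintype.sum_prod_type]
  conv_rhs => rw [← hm, pi_eq_sum_univ' (s m), map_sum, map_sum]
  refine Finset.sum_congr rfl fun j _ => ?_
  rw [map_smul, map_smul, ← hc, Finset.smul_sum]
  refine Finset.sum_congr rfl fun l _ => ?_
  simp only [T, LinearMap.smul_apply, LinearMap.comp_apply, LinearMap.toSpanSingleton_apply, LinearMap.proj_apply]
  rw [smul_comm]

theorem exists_surjective_of_residual (hR : LGRing.IsLGRing R)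
    (M : Type w) (N : Type x) [AddCommGroup M] [Module A M] [Module R M] [IsScalarTower R A M] [Module.Finite A M]
    [Module.Projective A M] [Module.Finite R M] [AddCommGroup N] [Module A N] [Module R N] [IsScalarTower R A N]
    [Module.Finite A N] [Module.Projective A N] [Module.Finite R N] [Module.Projective R N]
    (h : ∀ m : Ideal R, m.IsMaximal → ∃ f : M →ₗ[A] N, ∀ n : N, ∃ x : M, f x - n ∈ m • (⊤ : Submodule R N)) :
    ∃ f : M →ₗ[A] N, Function.Surjective f := by
  classical
  obtain ⟨p, F, hF⟩ := exists_hom_generators (R := R) (A := A) M N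
  obtain ⟨p', G, hG⟩ := exists_hom_generators (R := R) (A := A) N M
  obtain ⟨q, ι, π, hπι⟩ := exists_retract (R := R) N
  let fs : (Fin p → R) → M →ₗ[A] N := fun s => ∑ i, s i • F i
  let gs : (Fin p' → R) → N →ₗ[A] M := fun t => ∑ j, t j • G j
  let Φ : (M →ₗ[A] N) → (N →ₗ[A] M) → Module.End R (Fin q → R) := fun f g =>
    ι ∘ₗ ((f ∘ₗ g).restrictScalars R) ∘ₗ π + (1 - ι ∘ₗ π)
  let P : Matrix (Fin q) (Fin q) (MvPolynomial (Fin (p + p')) R) :=
    (LinearMap.toMatrix' (1 - ι ∘ₗ π)).map MvPolynomial.C +
      ∑ i, ∑ j, (MvPolynomial.X (Fin.castAdd p' i) * MvPolynomial.X (Fin.natAdd p j) : MvPolynomial (Fin (p + p')) R) •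
        (LinearMap.toMatrix' (ι ∘ₗ ((F i ∘ₗ G j).restrictScalars R) ∘ₗ π)).map (MvPolynomial.C : R →+* MvPolynomial (Fin (p + p')) R)
  have hP : ∀ s : Fin (p + p') → R, MvPolynomial.eval s P.det =
      LinearMap.det (Φ (fs fun i => s (Fin.castAdd p' i)) (gs fun j => s (Fin.natAdd p j))) := by
    intro s
    rw [← LinearMap.det_toMatrix', RingHom.map_det]
    refine congrArg Matrix.det ?_
    have hlin : Φ (fs fun i => s (Fin.castAdd p' i)) (gs fun j => s (Fin.natAdd p j)) = (1 - ι ∘ₗ π) +
        ∑ i, ∑ j, (s (Fin.castAdd p' i) * s (Fin.natAdd p j)) • (ι ∘ₗ ((F i ∘ₗ G j).restrictScalars R) ∘ₗ π) := by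
      refine LinearMap.ext fun v => ?_
      simp only [Φ, fs, gs, LinearMap.add_apply, LinearMap.comp_apply, LinearMap.restrictScalars_apply,
        LinearMap.sum_apply, LinearMap.smul_apply, map_sum, map_smul, Finset.smul_sum, smul_smul]
      rw [add_comm, Finset.sum_comm]
      congr 1
      refine Finset.sum_congr rfl fun i _ => Finset.sum_congr rfl fun j _ => ?_
      rw [LinearMap.map_smul_of_tower (F i), map_smul, smul_smul]
    rw [hlin, map_add, map_sum]
    simp only [P, map_add, map_sum, map_smul, RingHom.mapMatrix_apply]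
    congr 1
    · ext a b; simp [Matrix.one_apply, Pi.single_apply]
    · refine Finset.sum_congr rfl fun i _ => Finset.sum_congr rfl fun j _ => ?_
      ext a b; simp
  obtain ⟨s, hs⟩ := hR (p + p') P.det (fun m hm => by
    obtain ⟨f, hf⟩ := h m hm
    let q' : N →ₗ[R] N ⧸ (m • (⊤ : Submodule R N)) := Submodule.mkQ _
    have hAmem : ∀ (a : A), ∀ z ∈ (m • (⊤ : Submodule R N)), a • z ∈ (m • (⊤ : Submodule R N)) := fun a z hz => by
      refine Submodule.smul_induction_on hz (fun r hr y _ => ?_) (fun u v hu hv => by rw [smul_add]; exact add_mem hu hv)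
      rw [smul_comm]
      exact Submodule.smul_mem_smul hr trivial
    let K : Submodule A N :=
      { carrier := (m • (⊤ : Submodule R N) : Submodule R N)
        add_mem' := fun {a b} ha hb => add_mem ha hb
        zero_mem' := zero_mem _
        smul_mem' := hAmem }
    obtain ⟨g, hg⟩ := Module.projective_lifting_property (K.mkQ ∘ₗ f) K.mkQ (fun y => by
      obtain ⟨n, rfl⟩ := K.mkQ_surjective y
      obtain ⟨x, hx⟩ := hf n
      exact ⟨x, (Submodule.Quotient.eq K).2 hx⟩)
    obtain ⟨cs, hcs⟩ := hF f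
    obtain ⟨ct, hct⟩ := hG g
    let s : Fin (p + p') → R := Fin.append cs ct
    refine ⟨fun i => Ideal.Quotient.mk m (s i), ?_⟩
    have hev : MvPolynomial.aeval (fun i => Ideal.Quotient.mk m (s i)) P.det =
        Ideal.Quotient.mk m (MvPolynomial.eval s P.det) := by
      rw [MvPolynomial.aeval_def, MvPolynomial.eval, MvPolynomial.coe_eval₂Hom, MvPolynomial.eval₂_comp_left]
      rfl
    have hfs : fs (fun i => s (Fin.castAdd p' i)) = f := by
      simp only [fs, s, Fin.append_left]; exact hcs
    have hgs : gs (fun j => s (Fin.natAdd p j)) = g := by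
      simp only [gs, s, Fin.append_right]; exact hct
    rw [hev, hP, hfs, hgs, ← LinearMap.det_toMatrix', RingHom.map_det]
    have hone : (Ideal.Quotient.mk m).mapMatrix (LinearMap.toMatrix' (Φ f g)) = 1 := by
      ext a b
      have hd : f (g (π (Pi.single b 1))) - π (Pi.single b 1) ∈ m • (⊤ : Submodule R N) :=
        (Submodule.Quotient.eq K).1 (LinearMap.congr_fun hg (π (Pi.single b 1)))
      have hmem : ι (f (g (π (Pi.single b 1))) - π (Pi.single b 1)) a ∈ m := by
        refine Submodule.smul_induction_on hd (fun r hr y _ => ?_) (fun u v hu hv => by rw [map_add, Pi.add_apply]; exact add_mem hu hv)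
        rw [map_smul, Pi.smul_apply, smul_eq_mul]
        exact Ideal.mul_mem_right _ _ hr
      have hsplit : LinearMap.toMatrix' (Φ f g) a b =
          (1 : Matrix (Fin q) (Fin q) R) a b + ι (f (g (π (Pi.single b 1))) - π (Pi.single b 1)) a := by
        rw [LinearMap.toMatrix'_apply]
        simp [Φ, Matrix.one_apply, Pi.single_apply, map_sub]
        ring
      rw [RingHom.mapMatrix_apply, Matrix.map_apply, hsplit, map_add, Ideal.Quotient.eq_zero_iff_mem.2 hmem, add_zero]
      by_cases hab : a = b <;> simp [Matrix.one_apply, hab]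
    rw [hone, Matrix.det_one]
    exact isUnit_one)
  rw [MvPolynomial.aeval_eq_eval, hP] at hs
  refine ⟨fs fun i => s (Fin.castAdd p' i), fun n => ?_⟩
  obtain ⟨y, hy⟩ := ((Module.End.isUnit_iff _).1 ((LinearMap.isUnit_iff_isUnit_det _).2 hs)).2 (ι n)
  refine ⟨gs (fun j => s (Fin.natAdd p j)) (π y), ?_⟩
  have h1 := congrArg π hy
  have hπι' : ∀ z, π (ι z) = z := fun z => LinearMap.congr_fun hπι z
  simpa [Φ, hπι'] using h1

end LG

section Azumaya

variable {R : Type u} [CommRing R] {A : Type v} [Ring A] [Algebra R A] [IsAzumaya R A]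

theorem exists_surjective_of_rank_le (hR : LGRing.IsLGRing R)
    (M : Type w) (N : Type x) [AddCommGroup M] [Module A M] [Module R M] [IsScalarTower R A M] [Module.Finite A M]
    [Module.Projective A M] [AddCommGroup N] [Module A N] [Module R N] [IsScalarTower R A N]
    [Module.Finite A N] [Module.Projective A N]
    (h : ∀ p : PrimeSpectrum R, Module.rankAtStalk N p ≤ Module.rankAtStalk M p) :
    ∃ f : M →ₗ[A] N, Function.Surjective f := by
  classical
  haveI : Module.Finite R M := Module.Finite.trans A M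
  haveI : Module.Finite R N := Module.Finite.trans A N
  haveI : Module.Projective R N := by
    obtain ⟨r, π, hπ⟩ := Module.Finite.exists_fin' A N
    obtain ⟨s, hs⟩ := Module.projective_lifting_property π LinearMap.id hπ
    haveI : Module.Projective R (Fin r → A) :=
      Module.Projective.of_equiv (DFinsupp.linearEquivFunOnFintype (R := R) (M := fun _ : Fin r => A))
    exact Module.Projective.of_split (s.restrictScalars R) (π.restrictScalars R)
      (LinearMap.ext fun z => LinearMap.congr_fun hs z)
  haveI : Module.Projective R M := by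
    obtain ⟨r, π, hπ⟩ := Module.Finite.exists_fin' A M
    obtain ⟨s, hs⟩ := Module.projective_lifting_property π LinearMap.id hπ
    haveI : Module.Projective R (Fin r → A) :=
      Module.Projective.of_equiv (DFinsupp.linearEquivFunOnFintype (R := R) (M := fun _ : Fin r => A))
    exact Module.Projective.of_split (s.restrictScalars R) (π.restrictScalars R)
      (LinearMap.ext fun z => LinearMap.congr_fun hs z)
  refine exists_surjective_of_residual hR M N fun m hm => ?_
  letI := Ideal.Quotient.field m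
  let κ := R ⧸ m
  haveI : IsAzumaya κ (κ ⊗[R] A) := baseChange κ
  haveI : IsSimpleRing (κ ⊗[R] A) := (isCSA (k := κ) (D := κ ⊗[R] A)).2
  let φM : κ ⊗[R] A →ₐ[κ] Module.End κ (κ ⊗[R] M) :=
    Algebra.TensorProduct.lift (Algebra.ofId κ _) ((Module.End.baseChangeHom R κ M).comp (Algebra.lsmul R R M))
      fun c a => Algebra.commutes c _
  let φN : κ ⊗[R] A →ₐ[κ] Module.End κ (κ ⊗[R] N) :=
    Algebra.TensorProduct.lift (Algebra.ofId κ _) ((Module.End.baseChangeHom R κ N).comp (Algebra.lsmul R R N))
      fun c a => Algebra.commutes c _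
  letI : Module (κ ⊗[R] A) (κ ⊗[R] M) := Module.compHom _ φM.toRingHom
  letI : Module (κ ⊗[R] A) (κ ⊗[R] N) := Module.compHom _ φN.toRingHom
  haveI : IsScalarTower κ (κ ⊗[R] A) (κ ⊗[R] M) := ⟨fun c a y => by
    show φM (c • a) y = c • φM a y
    rw [map_smul, LinearMap.smul_apply]⟩
  haveI : IsScalarTower κ (κ ⊗[R] A) (κ ⊗[R] N) := ⟨fun c a y => by
    show φN (c • a) y = c • φN a y
    rw [map_smul, LinearMap.smul_apply]⟩
  let pm : PrimeSpectrum R := ⟨m, hm.isPrime⟩
  have hpm : (⟨⊥, Ideal.bot_prime⟩ : PrimeSpectrum κ).comap (algebraMap R κ) = pm :=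
    PrimeSpectrum.ext (Ideal.mk_ker (I := m))
  have hrk : Module.finrank κ (κ ⊗[R] N) ≤ Module.finrank κ (κ ⊗[R] M) := by
    have := h pm
    rwa [← hpm, ← Module.rankAtStalk_baseChange, ← Module.rankAtStalk_baseChange,
      Module.rankAtStalk_eq_finrank_of_free, Module.rankAtStalk_eq_finrank_of_free] at this
  obtain ⟨f₀, hf₀⟩ := exists_surjective_of_finrank_le (κ := κ) (B := κ ⊗[R] A) (κ ⊗[R] M) (κ ⊗[R] N) hrk
  letI : Module A (κ ⊗[R] M) := Module.compHom _ (Algebra.TensorProduct.includeRight : A →ₐ[R] κ ⊗[R] A).toRingHom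
  letI : Module A (κ ⊗[R] N) := Module.compHom _ (Algebra.TensorProduct.includeRight : A →ₐ[R] κ ⊗[R] A).toRingHom
  let incM : M →ₗ[A] κ ⊗[R] M :=
    { toFun := fun y => (1 : κ) ⊗ₜ y
      map_add' := fun a b => TensorProduct.tmul_add _ _ _
      map_smul' := fun a y => by
        show _ = φM ((1 : κ) ⊗ₜ a) ((1 : κ) ⊗ₜ y)
        rw [Algebra.TensorProduct.lift_tmul, map_one, one_mul]
        exact congrArg ((1 : κ) ⊗ₜ[R] ·) rfl }
  let incN : N →ₗ[A] κ ⊗[R] N :=
    { toFun := fun y => (1 : κ) ⊗ₜ y
      map_add' := fun a b => TensorProduct.tmul_add _ _ _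
      map_smul' := fun a y => by
        show _ = φN ((1 : κ) ⊗ₜ a) ((1 : κ) ⊗ₜ y)
        rw [Algebra.TensorProduct.lift_tmul, map_one, one_mul]
        exact congrArg ((1 : κ) ⊗ₜ[R] ·) rfl }
  let f₁ : M →ₗ[A] κ ⊗[R] N :=
    { toFun := fun y => f₀ (incM y)
      map_add' := fun a b => by rw [map_add, map_add]
      map_smul' := fun a y => by
        rw [map_smul incM]
        exact map_smul f₀ ((1 : κ) ⊗ₜ a) (incM y) }
  have hsur : ∀ (V : Type x) [AddCommGroup V] [Module R V] (y : κ ⊗[R] V), ∃ v, (1 : κ) ⊗ₜ v = y := by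
    intro V _ _ y
    exact TensorProduct.mk_surjective R V κ Ideal.Quotient.mk_surjective y
  obtain ⟨f, hf⟩ := Module.projective_lifting_property incN f₁ (fun y => hsur N y)
  refine ⟨f, fun n => ?_⟩
  obtain ⟨z, hz⟩ := hf₀ ((1 : κ) ⊗ₜ n)
  obtain ⟨y, hy⟩ := TensorProduct.mk_surjective R M κ Ideal.Quotient.mk_surjective z
  refine ⟨y, ?_⟩
  have hzero : (1 : κ) ⊗ₜ[R] (f y - n) = 0 := by
    rw [TensorProduct.tmul_sub, sub_eq_zero]
    calc (1 : κ) ⊗ₜ[R] (f y) = f₁ y := LinearMap.congr_fun hf y
      _ = f₀ z := congrArg f₀ hy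
      _ = _ := hz
  have hq := TensorProduct.quotTensorEquivQuotSMul_mk_tmul (M := N) m 1 (f y - n)
  rw [one_smul, show ((Ideal.Quotient.mk m) 1 : R ⧸ m) = (1 : κ) from rfl, hzero, map_zero] at hq
  exact (Submodule.Quotient.mk_eq_zero _).1 hq.symm

end Azumaya

end Groth.Agent.Azu
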