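import Groth.Agent.Azu.Twist
import Mathlib.LinearAlgebra.PiTensorProduct.Basic
import Mathlib.LinearAlgebra.Matrix.Determinant.Basic

/-!
Automorphisms of matrix algebras: the torsion line bundle.
-/

set_option autoImplicit false

universe u v w

open scoped TensorProduct

namespace Groth.Agent.Azu

variable {R : Type u} [CommRing R]

theorem invertible_piTensor {L : Type v} [AddCommGroup L] [Module R L] [Module.Invertible R L] :
    ∀ n : ℕ, Module.Invertible R (⨂[R] _ : Fin n, L)
  | 0 => Module.Invertible.congr (PiTensorProduct.isEmptyEquiv (Fin 0)).symm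
  | n + 1 =>
      haveI := invertible_piTensor (L := L) n
      haveI : Module.Invertible R (⨂[R] _ : Fin 1, L) :=
        Module.Invertible.congr (PiTensorProduct.subsingletonEquiv (0 : Fin 1)).symm
      Module.Invertible.congr
        (PiTensorProduct.tmulEquiv R L ≪≫ₗ PiTensorProduct.reindex R (fun _ => L) finSumFinEquiv)

theorem matrix_aut_torsion (n : ℕ) (hn : 0 < n) (α : Matrix (Fin n) (Fin n) R ≃ₐ[R] Matrix (Fin n) (Fin n) R) :
    Module.Invertible R (twist α) ∧ Nonempty ((⨂[R] _ : Fin n, twist α) ≃ₗ[R] R) := by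
  haveI : Nonempty (Fin n) := ⟨⟨0, hn⟩⟩
  haveI := IsAzumaya.matrix (R := R) (n := Fin n)
  haveI := twist_invertible α
  refine ⟨inferInstance, ?_⟩
  haveI := invertible_piTensor (R := R) (L := twist α) n
  let f : MultilinearMap R (fun _ : Fin n => twist α) R :=
    (Matrix.detRowAlternating (n := Fin n) (R := R)).toMultilinearMap.compLinearMap fun i : Fin n =>
      (LinearMap.proj (R := R) (φ := fun _ : Fin n => Fin n → R) i).comp (twist α).subtype
  have hsurj : Function.Surjective (PiTensorProduct.lift f) := by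
    rw [← LinearMap.range_eq_top]
    by_contra hne
    obtain ⟨m, hm, hle⟩ := Ideal.exists_le_maximal _ hne
    haveI := hm.isPrime
    obtain ⟨l, hl, r, hr, x, hx, -⟩ := exists_twist_unit α m
    have h1 : l.det * x.det = r ^ n := by
      rw [← Matrix.det_mul, hx, Matrix.det_smul, Matrix.det_one, mul_one, Fintype.card_fin]
    have h2 : l.det ∈ m := hle ⟨PiTensorProduct.tprod R fun _ => (⟨l, hl⟩ : twist α), by
      rw [PiTensorProduct.lift.tprod]
      rfl⟩
    exact hr (hm.isPrime.mem_of_pow_mem n (h1 ▸ m.mul_mem_right _ h2))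
  exact ⟨LinearEquiv.ofBijective _ (Module.Invertible.bijective_of_surjective hsurj)⟩

end Groth.Agent.Azu
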