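import Groth.Agent.Azu.Basic
import Groth.Agent.EtMilLib.Glue

/-!
Azumaya algebras over Milnor squares.
-/

set_option autoImplicit false

universe u

open scoped TensorProduct

namespace Groth.Agent.Azu

open Groth.Agent.EtMilLib

variable {B' B A' A : Type u} [CommRing B'] [CommRing B] [CommRing A'] [CommRing A]
  [Algebra B' B] [Algebra B' A'] [Algebra B A] [Algebra A' A] [Algebra B' A]
  [IsScalarTower B' B A] [IsScalarTower B' A' A]

theorem exists_prime_of_fibreSquare (hsq : EtMil.IsFibreSquare B' B A' A) (p : Ideal B') [hp : p.IsPrime] :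
    (∃ q : Ideal B, q.IsPrime ∧ q.comap (algebraMap B' B) = p) ∨
      ∃ q : Ideal A', q.IsPrime ∧ q.comap (algebraMap B' A') = p := by
  by_cases hker : RingHom.ker (algebraMap B' B) ≤ p
  · exact Or.inl ⟨p.map (algebraMap B' B), Ideal.map_isPrime_of_surjective (surjective_fst hsq) hker,
      by rw [Ideal.comap_map_of_surjective _ (surjective_fst hsq)]; exact sup_eq_left.2 hker⟩
  · obtain ⟨j, hj, hjp⟩ := SetLike.not_le_iff_exists.1 hker
    have hj' : algebraMap B' B j = 0 := hj
    let q : Ideal A' :=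
      { carrier := {a | mulLift hsq j hj' a ∈ p}
        zero_mem' := by show mulLift hsq j hj' 0 ∈ p; rw [map_zero]; exact p.zero_mem
        add_mem' := fun {a b} ha hb => by
          show mulLift hsq j hj' (a + b) ∈ p
          rw [map_add]; exact p.add_mem ha hb
        smul_mem' := fun c a (ha : mulLift hsq j hj' a ∈ p) => by
          have h : mulLift hsq j hj' (c • a) * j = mulLift hsq j hj' c * mulLift hsq j hj' a :=
            eq_of_maps_eq hsq (by simp [(mulLift_spec hsq j hj' _).1, hj'])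
              (by simp only [map_mul, (mulLift_spec hsq j hj' _).2, smul_eq_mul]; ring)
          exact (hp.mem_or_mem (h ▸ p.mul_mem_left _ ha)).resolve_right hjp }
    have hq : ∀ a, a ∈ q ↔ mulLift hsq j hj' a ∈ p := fun a => Iff.rfl
    refine Or.inr ⟨q, ⟨fun h => hjp ?_, fun {a b} hab => ?_⟩, ?_⟩
    · have h1 := (hq 1).1 (h ▸ Submodule.mem_top)
      rwa [mulLift_one] at h1
    · rw [hq] at hab ⊢
      rw [hq]
      have h : mulLift hsq j hj' (a * b) * j = mulLift hsq j hj' a * mulLift hsq j hj' b :=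
        eq_of_maps_eq hsq (by simp [(mulLift_spec hsq j hj' _).1, hj'])
          (by simp only [map_mul, (mulLift_spec hsq j hj' _).2]; ring)
      exact hp.mem_or_mem (h ▸ p.mul_mem_right _ hab)
    · ext b
      rw [Ideal.mem_comap, hq]
      have h : mulLift hsq j hj' (algebraMap B' A' b) = b * j :=
        eq_of_maps_eq hsq (by simp [(mulLift_spec hsq j hj' _).1, hj']) (by simp [(mulLift_spec hsq j hj' _).2])
      rw [h]
      exact ⟨fun h => (hp.mem_or_mem h).resolve_right hjp, fun h => p.mul_mem_right _ h⟩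

theorem isAzumaya_of_square (hsq : EtMil.IsFibreSquare B' B A' A) {D : Type u} [Ring D] [Algebra B' D]
    (h1 : IsAzumaya B (B ⊗[B'] D)) (h2 : IsAzumaya A' (A' ⊗[B'] D)) : IsAzumaya B' D := by
  haveI := h1
  haveI := h2
  haveI : Module.FinitePresentation B (B ⊗[B'] D) := Module.finitePresentation_of_projective B _
  haveI : Module.FinitePresentation A' (A' ⊗[B'] D) := Module.finitePresentation_of_projective A' _
  haveI := flat_of_baseChange hsq (L := D)
  haveI := finitePresentation_of_baseChange hsq (L := D)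
  haveI : Module.Projective B' D := Module.Flat.projective_of_finitePresentation
  refine of_fibres fun p hp => ?_
  haveI := hp.isPrime
  rcases exists_prime_of_fibreSquare hsq p with ⟨q, hq, hqp⟩ | ⟨q, hq, hqp⟩
  · exact fibre_of_prime B p q hqp
  · exact fibre_of_prime A' p q hqp

theorem isAzumaya_of_glue (hsq : EtMil.IsFibreSquare B' B A' A)
    {N : Type u} [Ring N] [Algebra B N] [Algebra B' N] [IsScalarTower B' B N] [IsAzumaya B N]
    {M' : Type u} [Ring M'] [Algebra A' M'] [Algebra B' M'] [IsScalarTower B' A' M'] [IsAzumaya A' M']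
    (φ : A ⊗[B] N ≃ₐ[A] A ⊗[A'] M')
    {D' : Type u} [Ring D'] [Algebra B' D'] (π₁ : D' →ₐ[B'] N) (π₂ : D' →ₐ[B'] M')
    (hinj : ∀ d : D', π₁ d = 0 → π₂ d = 0 → d = 0)
    (himg : ∀ (n : N) (m' : M'), φ ((1 : A) ⊗ₜ[B] n) = (1 : A) ⊗ₜ[A'] m' ↔ ∃ d : D', π₁ d = n ∧ π₂ d = m') :
    IsAzumaya B' D' := by
  let g : D' →ₗ[B'] EtMil.glue B' φ.toLinearEquiv :=
    LinearMap.codRestrict _ (π₁.toLinearMap.prod π₂.toLinearMap) fun d => (himg _ _).2 ⟨d, rfl, rfl⟩
  have hg : Function.Bijective g := by
    constructor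
    · refine (injective_iff_map_eq_zero g).2 fun d hd => ?_
      have hd' : (π₁ d, π₂ d) = (0 : N × M') := congrArg Subtype.val hd
      exact hinj d (congrArg Prod.fst hd') (congrArg Prod.snd hd')
    · rintro ⟨⟨n, m⟩, h⟩
      obtain ⟨d, hd1, hd2⟩ := (himg n m).1 h
      exact ⟨d, Subtype.ext (Prod.ext hd1 hd2)⟩
  let e := LinearEquiv.ofBijective g hg
  let f₁ : B ⊗[B'] D' →ₐ[B] N := Algebra.TensorProduct.lift (Algebra.ofId B N) π₁ fun b d => Algebra.commutes b (π₁ d)
  let f₂ : A' ⊗[B'] D' →ₐ[A'] M' := Algebra.TensorProduct.lift (Algebra.ofId A' M') π₂ fun b d => Algebra.commutes b (π₂ d)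
  have hf₁ : f₁.toLinearMap = (LinearMap.liftBaseChange B (EtMil.glueFst B' φ.toLinearEquiv)).comp
      (e.toLinearMap.baseChange B) := TensorProduct.AlgebraTensorModule.ext fun b d => by
    show f₁ (b ⊗ₜ d) = LinearMap.liftBaseChange B (EtMil.glueFst B' φ.toLinearEquiv) (b ⊗ₜ g d)
    rw [LinearMap.liftBaseChange_tmul, Algebra.smul_def]
    simp [f₁]
    rfl
  have hf₂ : f₂.toLinearMap = (LinearMap.liftBaseChange A' (EtMil.glueSnd B' φ.toLinearEquiv)).comp
      (e.toLinearMap.baseChange A') := TensorProduct.AlgebraTensorModule.ext fun b d => by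
    show f₂ (b ⊗ₜ d) = LinearMap.liftBaseChange A' (EtMil.glueSnd B' φ.toLinearEquiv) (b ⊗ₜ g d)
    rw [LinearMap.liftBaseChange_tmul, Algebra.smul_def]
    simp [f₂]
    rfl
  have b1 : Function.Bijective f₁ := by
    show Function.Bijective f₁.toLinearMap
    rw [hf₁]
    exact (liftBaseChange_glueFst_bijective hsq φ.toLinearEquiv).comp (e.baseChange B' B).bijective
  have b2 : Function.Bijective f₂ := by
    show Function.Bijective f₂.toLinearMap
    rw [hf₂]
    exact (liftBaseChange_glueSnd_bijective hsq φ.toLinearEquiv).comp (e.baseChange B' A').bijective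
  exact isAzumaya_of_square hsq (IsAzumaya.of_AlgEquiv (R := B) _ _ (AlgEquiv.ofBijective f₁ b1).symm)
    (IsAzumaya.of_AlgEquiv (R := A') _ _ (AlgEquiv.ofBijective f₂ b2).symm)

end Groth.Agent.Azu
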