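import Groth.Agent.Azu.Basic

/-!
The projection element of an Azumaya algebra, centre, ideals and the Morita decomposition of bimodules.
-/

set_option autoImplicit false

universe u v w x

open scoped TensorProduct

namespace Groth.Agent.Azu

variable {R : Type u} [CommRing R]

/-- A faithful finite projective algebra has a retraction onto the scalars. -/
theorem exists_retraction {A : Type v} [Ring A] [Algebra R A] [Module.Finite R A] [Module.Projective R A]
    [FaithfulSMul R A] : ∃ τ : A →ₗ[R] R, τ 1 = 1 := by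
  obtain ⟨n, i, π, hπi⟩ := exists_retract (R := R) A
  haveI := faithfullyFlat_of_faithful (R := R) A
  let φ : Fin n → A →ₗ[R] R := fun j => (LinearMap.proj j).comp i
  set C : Ideal R := Ideal.span (Set.range fun j => φ j 1)
  have h1 : (1 : A) = ∑ j, φ j 1 • π (Pi.single j 1) := by
    have h : i 1 = ∑ j, φ j 1 • (Pi.single j (1 : R) : Fin n → R) := by
      ext l
      simp [φ, Finset.sum_apply, Pi.single_apply]
    conv_lhs => rw [← LinearMap.id_apply (R := R) (1 : A), ← hπi, LinearMap.comp_apply, h, map_sum]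
    simp only [map_smul]
  have htop : C = ⊤ := by
    by_contra hne
    obtain ⟨m, hm, hle⟩ := Ideal.exists_le_maximal _ hne
    refine Module.FaithfullyFlat.submodule_ne_top (R := R) (M := A) hm (top_unique fun a _ => ?_)
    rw [← mul_one a, h1, Finset.mul_sum]
    refine sum_mem fun j _ => ?_
    rw [mul_smul_comm]
    exact Submodule.smul_mem_smul (hle (Ideal.subset_span ⟨j, rfl⟩)) trivial
  obtain ⟨c, hc⟩ := (Submodule.mem_span_range_iff_exists_fun R).1 (htop ▸ trivial : (1 : R) ∈ C)
  exact ⟨∑ j, c j • φ j, by simpa [LinearMap.sum_apply] using hc⟩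

variable {A : Type v} [Ring A] [Algebra R A] [IsAzumaya R A]

variable (R A) in
/-- A chosen retraction. -/
noncomputable def τ : A →ₗ[R] R := (exists_retraction (R := R) (A := A)).choose

theorem τ_one : τ R A 1 = 1 := (exists_retraction (R := R) (A := A)).choose_spec

theorem τ_algebraMap (r : R) : τ R A (algebraMap R A r) = r := by
  rw [Algebra.algebraMap_eq_smul_one, map_smul, τ_one, smul_eq_mul, mul_one]

variable (R A) in
/-- The idempotent inducing `x ↦ τ x • 1`. -/
noncomputable def E : A ⊗[R] Aᵐᵒᵖ :=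
  ((IsAzumaya.bij (R := R) (A := A)).2 ((Algebra.linearMap R A).comp (τ R A))).choose

theorem mulLeftRight_E (x : A) : AlgHom.mulLeftRight R A (E R A) x = algebraMap R A (τ R A x) := by
  have h := ((IsAzumaya.bij (R := R) (A := A)).2 ((Algebra.linearMap R A).comp (τ R A))).choose_spec
  exact LinearMap.congr_fun h x

theorem left_E (a : A) : ((a ⊗ₜ 1 : A ⊗[R] Aᵐᵒᵖ)) * E R A = ((1 : A) ⊗ₜ MulOpposite.op a) * E R A := by
  refine (IsAzumaya.bij (R := R) (A := A)).1 (LinearMap.ext fun x => ?_)
  rw [map_mul, map_mul, Module.End.mul_apply, Module.End.mul_apply, mulLeftRight_E, AlgHom.mulLeftRight_apply,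
    AlgHom.mulLeftRight_apply]
  simp [Algebra.commutes]

variable (R A) in
/-- The centre of an Azumaya algebra consists of the scalars. -/
theorem exists_scalar_of_central {x : A} (hx : ∀ a, a * x = x * a) : algebraMap R A (τ R A x) = x := by
  have h : ∀ t : A ⊗[R] Aᵐᵒᵖ, AlgHom.mulLeftRight R A t x = x * AlgHom.mulLeftRight R A t 1 := fun t => by
    induction t using TensorProduct.induction_on with
    | zero => simp
    | add a b ha hb => simp [map_add, mul_add, ha, hb]
    | tmul a b => rw [AlgHom.mulLeftRight_apply, AlgHom.mulLeftRight_apply, mul_one, hx, mul_assoc]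
  rw [← mulLeftRight_E x, h, mulLeftRight_E, τ_one, map_one, mul_one]

variable (R A) in
/-- Dual basis with preimages in the enveloping algebra. -/
theorem exists_frame : ∃ (n : ℕ) (φ : Fin n → A →ₗ[R] R) (b : Fin n → A) (t : Fin n → A ⊗[R] Aᵐᵒᵖ),
    (∀ x, ∑ j, φ j x • b j = x) ∧ ∀ j x, AlgHom.mulLeftRight R A (t j) x = algebraMap R A (φ j x) := by
  obtain ⟨n, i, π, hπi⟩ := exists_retract (R := R) A
  let φ : Fin n → A →ₗ[R] R := fun j => (LinearMap.proj j).comp i
  choose t ht using fun j => (IsAzumaya.bij (R := R) (A := A)).2 ((Algebra.linearMap R A).comp (φ j))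
  refine ⟨n, φ, fun j => π (Pi.single j 1), t, fun x => ?_, fun j x => LinearMap.congr_fun (ht j) x⟩
  have h : i x = ∑ j, φ j x • (Pi.single j (1 : R) : Fin n → R) := by
    ext l
    simp [φ, Finset.sum_apply, Pi.single_apply]
  conv_rhs => rw [← LinearMap.id_apply (R := R) x, ← hπi, LinearMap.comp_apply, h, map_sum]
  simp only [map_smul]

/-- Two-sided ideals are extended from the base. -/
theorem mem_span_of_mem (I : TwoSidedIdeal A) {x : A} (hx : x ∈ I) :
    ∃ (n : ℕ) (c : Fin n → R) (b : Fin n → A), (∀ j, algebraMap R A (c j) ∈ I) ∧ ∑ j, c j • b j = x := by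
  obtain ⟨n, φ, b, t, hsum, ht⟩ := exists_frame R A
  have hmem : ∀ t, AlgHom.mulLeftRight R A t x ∈ I := fun t => by
    induction t using TensorProduct.induction_on with
    | zero => simpa using zero_mem I
    | add a c ha hc => rw [map_add, LinearMap.add_apply]; exact add_mem ha hc
    | tmul a c => rw [AlgHom.mulLeftRight_apply]; exact I.mul_mem_right _ _ (I.mul_mem_left _ _ hx)
  exact ⟨n, fun j => φ j x, b, fun j => ht j x ▸ hmem (t j), hsum x⟩

section Bimodule

variable {M : Type w} [AddCommGroup M] [Module R M] (ρ : A ⊗[R] Aᵐᵒᵖ →ₐ[R] Module.End R M)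

/-- The invariants of a bimodule. -/
noncomputable def inv : Submodule R M where
  carrier := {m | ∀ a : A, ρ (a ⊗ₜ 1) m = ρ (1 ⊗ₜ MulOpposite.op a) m}
  zero_mem' := fun a => by simp
  add_mem' := fun h h' a => by rw [map_add, map_add, h a, h' a]
  smul_mem' := fun r m h a => by rw [map_smul, map_smul, h a]

theorem mem_inv {m : M} : m ∈ inv ρ ↔ ∀ a : A, ρ (a ⊗ₜ 1) m = ρ (1 ⊗ₜ MulOpposite.op a) m := Iff.rfl

/-- The enveloping algebra acts on invariants through `A`. -/
theorem act_inv {m : M} (hm : m ∈ inv ρ) (w : A ⊗[R] Aᵐᵒᵖ) :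
    ρ w m = ρ (AlgHom.mulLeftRight R A w 1 ⊗ₜ 1) m := by
  induction w using TensorProduct.induction_on with
  | zero => simp
  | add a b ha hb => rw [map_add, LinearMap.add_apply, ha, hb, map_add, LinearMap.add_apply, TensorProduct.add_tmul,
      map_add, LinearMap.add_apply]
  | tmul a b =>
      have h1 : (a ⊗ₜ b : A ⊗[R] Aᵐᵒᵖ) = (a ⊗ₜ 1) * ((1 : A) ⊗ₜ MulOpposite.op b.unop) := by
        simp [Algebra.TensorProduct.tmul_mul_tmul]
      rw [h1, map_mul ρ, Module.End.mul_apply, ← hm b.unop, ← Module.End.mul_apply, ← map_mul,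
        Algebra.TensorProduct.tmul_mul_tmul, mul_one]
      congr 2
      simp [AlgHom.mulLeftRight_apply]

theorem proj_mem (m : M) : ρ (E R A) m ∈ inv ρ := fun a => by
  rw [← Module.End.mul_apply, ← Module.End.mul_apply, ← map_mul, ← map_mul, left_E]

theorem proj_eq_self {m : M} (hm : m ∈ inv ρ) : ρ (E R A) m = m := by
  rw [act_inv ρ hm, mulLeftRight_E, τ_one, map_one, ← Algebra.TensorProduct.one_def, map_one, Module.End.one_apply]

/-- The projection onto the invariants. -/
noncomputable def proj : M →ₗ[R] inv ρ := (ρ (E R A)).codRestrict (inv ρ) (proj_mem ρ)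

theorem inv_finite [Module.Finite R M] : Module.Finite R (inv ρ) :=
  Module.Finite.of_surjective (proj ρ) fun m => ⟨m, Subtype.ext (proj_eq_self ρ m.2)⟩

theorem inv_projective [Module.Projective R M] : Module.Projective R (inv ρ) :=
  Module.Projective.of_split (inv ρ).subtype (proj ρ) (LinearMap.ext fun m => Subtype.ext (proj_eq_self ρ m.2))

/-- `l ⊗ a ↦ a · l`. -/
noncomputable def invMul : inv ρ ⊗[R] A →ₗ[R] M :=
  TensorProduct.lift (LinearMap.mk₂ R (fun (l : inv ρ) (a : A) => ρ (a ⊗ₜ 1) (l : M))
    (fun l l' a => map_add _ _ _) (fun r l a => map_smul _ _ _)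
    (fun l a a' => by rw [TensorProduct.add_tmul, map_add, LinearMap.add_apply])
    (fun r l a => by rw [← TensorProduct.smul_tmul', map_smul, LinearMap.smul_apply]))

theorem invMul_tmul (l : inv ρ) (a : A) : invMul ρ (l ⊗ₜ a) = ρ (a ⊗ₜ 1) (l : M) := by simp [invMul]

theorem invMul_bijective : Function.Bijective (invMul ρ) := by
  obtain ⟨n, φ, b, t, hsum, ht⟩ := exists_frame R A
  let g : M → inv ρ ⊗[R] A := fun m => ∑ j, proj ρ (ρ (t j) m) ⊗ₜ b j
  refine Function.bijective_iff_has_inverse.2 ⟨g, fun z => ?_, fun m => ?_⟩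
  · induction z using TensorProduct.induction_on with
    | zero => simp [g]
    | add a c ha hc =>
        simp only [g, map_add, TensorProduct.add_tmul, Finset.sum_add_distrib] at ha hc ⊢
        rw [ha, hc]
    | tmul l a =>
        have h : ∀ j, proj ρ (ρ (t j) (invMul ρ (l ⊗ₜ a))) = φ j a • l := fun j => Subtype.ext (by
          show ρ (E R A) (ρ (t j) (invMul ρ (l ⊗ₜ a))) = φ j a • (l : M)
          rw [invMul_tmul, ← Module.End.mul_apply (ρ (t j)), ← map_mul, ← Module.End.mul_apply, ← map_mul,
            act_inv ρ l.2, map_mul, Module.End.mul_apply, map_mul, Module.End.mul_apply, AlgHom.mulLeftRight_apply]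
          simp only [mul_one, one_mul, MulOpposite.unop_one, ht, mulLeftRight_E, τ_algebraMap]
          rw [Algebra.algebraMap_eq_smul_one, ← TensorProduct.smul_tmul', map_smul, ← Algebra.TensorProduct.one_def,
            map_one]
          simp)
        simp only [g, h, TensorProduct.smul_tmul, ← TensorProduct.tmul_sum, hsum]
  · have hone : ∑ j, (b j ⊗ₜ (1 : Aᵐᵒᵖ)) * E R A * t j = 1 := by
      refine (IsAzumaya.bij (R := R) (A := A)).1 (LinearMap.ext fun x => ?_)
      simp only [map_sum, map_mul, LinearMap.sum_apply, Module.End.mul_apply, ht, mulLeftRight_E, τ_algebraMap,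
        AlgHom.mulLeftRight_apply, MulOpposite.unop_one, mul_one, map_one, Module.End.one_apply]
      conv_rhs => rw [← hsum x]
      simp [Algebra.smul_def, Algebra.commutes]
    simp only [g, map_sum, invMul_tmul]
    refine Eq.trans ?_ (Eq.trans (congrArg (fun w => ρ w m) hone) (by rw [map_one, Module.End.one_apply]))
    simp only [map_sum, LinearMap.sum_apply]
    refine Finset.sum_congr rfl fun j _ => ?_
    rw [map_mul, map_mul, Module.End.mul_apply, Module.End.mul_apply]
    rfl

end Bimodule

end Groth.Agent.Azu
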