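import Groth.Agent.Azu.GlobalSplit
import Mathlib.RingTheory.PiTensorProduct
import Mathlib.LinearAlgebra.Matrix.Determinant.Basic
import Mathlib.GroupTheory.Perm.Sign
import Mathlib.RingTheory.Spectrum.Prime.RingHom

/-!
The `n`-th tensor power of an Azumaya algebra of degree `n` is a split algebra: antisymmetrisation.
-/

set_option autoImplicit false

universe u

open scoped TensorProduct Matrix

namespace Groth.Agent.Azu.TPow

variable {R : Type u} [CommRing R] {A : Type u} [Ring A] [Algebra R A] {n : ℕ} {S : Type u} [CommRing S] [Algebra R S]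

/-- Kronecker product of a family of matrices. -/
def kron (f : Fin n → Matrix (Fin n) (Fin n) S) : Matrix (Fin n → Fin n) (Fin n → Fin n) S :=
  Matrix.of fun α β => ∏ i, f i (α i) (β i)

theorem kron_mul (f g : Fin n → Matrix (Fin n) (Fin n) S) : kron (f * g) = kron f * kron g := by
  ext α β
  simp only [kron, Matrix.of_apply, Pi.mul_apply, Matrix.mul_apply]
  rw [Fintype.prod_sum]
  simp only [Finset.prod_mul_distrib]

theorem kron_one : kron (1 : Fin n → Matrix (Fin n) (Fin n) S) = 1 := by
  ext α β
  simp only [kron, Matrix.of_apply, Pi.one_apply, Matrix.one_apply]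
  by_cases h : α = β
  · simp [h]
  · rw [if_neg h]
    obtain ⟨i, hi⟩ := Function.ne_iff.1 h
    exact Finset.prod_eq_zero (Finset.mem_univ i) (if_neg hi)

/-- `kron` as a monoid map. -/
def kronHom : (Fin n → Matrix (Fin n) (Fin n) S) →* Matrix (Fin n → Fin n) (Fin n → Fin n) S where
  toFun := kron
  map_one' := kron_one
  map_mul' := kron_mul

theorem kron_update (f : Fin n → Matrix (Fin n) (Fin n) S) (i : Fin n) (M : Matrix (Fin n) (Fin n) S)
    (α β : Fin n → Fin n) :
    kron (Function.update f i M) α β = M (α i) (β i) * ∏ j ∈ Finset.univ.erase i, f j (α j) (β j) := by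
  classical
  simp only [kron, Matrix.of_apply]
  rw [← Finset.mul_prod_erase _ _ (Finset.mem_univ i), Function.update_self]
  congr 1
  exact Finset.prod_congr rfl fun j hj => by rw [Function.update_of_ne (Finset.ne_of_mem_erase hj)]

/-- `kron` as a multilinear map. -/
noncomputable def kronMulti :
    MultilinearMap S (fun _ : Fin n => Matrix (Fin n) (Fin n) S) (Matrix (Fin n → Fin n) (Fin n → Fin n) S) :=
  MultilinearMap.mk' kron
    (fun m i x y => by
      ext α β
      simp only [Matrix.add_apply, kron_update]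
      ring)
    (fun m i c x => by
      ext α β
      simp only [Matrix.smul_apply, kron_update, smul_eq_mul]
      ring)

theorem kronMulti_apply (f : Fin n → Matrix (Fin n) (Fin n) S) : kronMulti f = kron f := rfl

/-- Permutation operators. -/
def permOp (σ : Equiv.Perm (Fin n)) : Matrix (Fin n → Fin n) (Fin n → Fin n) S :=
  Matrix.of fun α β => if α = β ∘ σ then 1 else 0

theorem permOp_one : (permOp 1 : Matrix (Fin n → Fin n) (Fin n → Fin n) S) = 1 := by
  ext α β
  simp [permOp, Matrix.one_apply]

theorem permOp_mul (σ τ : Equiv.Perm (Fin n)) :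
    (permOp σ : Matrix (Fin n → Fin n) (Fin n → Fin n) S) * permOp τ = permOp (τ * σ) := by
  ext α γ
  simp only [permOp, Matrix.mul_apply, Matrix.of_apply]
  rw [Finset.sum_eq_single (γ ∘ τ)]
  · simp [Function.comp_assoc, Equiv.Perm.coe_mul]
  · intro β _ hβ
    rw [if_neg hβ, mul_zero]
  · simp

/-- Determinant of the 0/1 matrix of a function. -/
def wvec (α : Fin n → Fin n) : S := (Matrix.of fun i p => if α i = p then (1 : S) else 0).det

theorem wvec_id : wvec (S := S) (id : Fin n → Fin n) = 1 := by
  rw [wvec, show (Matrix.of fun i p => if id i = p then (1 : S) else 0) = 1 by ext i p; simp [Matrix.one_apply],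
    Matrix.det_one]

theorem sum_sign_permOp :
    (∑ σ : Equiv.Perm (Fin n), ((Equiv.Perm.sign σ : ℤ) : S) • permOp (S := S) σ) = Matrix.vecMulVec wvec wvec := by
  classical
  ext α β
  rw [Matrix.vecMulVec_apply, wvec, wvec, ← Matrix.det_transpose (Matrix.of fun i p => if β i = p then (1 : S) else 0),
    ← Matrix.det_mul, Matrix.det_apply, Matrix.sum_apply]
  rw [← Equiv.sum_comp (Equiv.inv (Equiv.Perm (Fin n)))]
  refine Finset.sum_congr rfl fun σ _ => ?_
  have hN : ∀ i j, ((Matrix.of fun i p => if α i = p then (1 : S) else 0) *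
      Matrix.transpose (Matrix.of fun i p => if β i = p then (1 : S) else 0)) i j = if α i = β j then 1 else 0 := by
    intro i j
    simp [Matrix.mul_apply, eq_comm]
  simp only [hN, Equiv.inv_apply, Equiv.Perm.sign_inv, permOp, Matrix.smul_apply, Matrix.of_apply, smul_eq_mul,
    Units.smul_def, zsmul_eq_mul]
  congr 1
  by_cases h : α = β ∘ ⇑σ⁻¹
  · rw [if_pos h, Finset.prod_eq_one fun i _ => by
      rw [if_pos]
      rw [h]
      simp]
  · rw [if_neg h]
    obtain ⟨j, hj⟩ := Function.ne_iff.1 h
    refine (Finset.prod_eq_zero (Finset.mem_univ (σ⁻¹ j)) ?_).symm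
    rw [if_neg]
    simpa using hj

variable (φ : (S ⊗[R] A) ≃ₐ[S] Matrix (Fin n) (Fin n) S)

/-- The representation of `A`. -/
noncomputable def rep : A →ₐ[R] Matrix (Fin n) (Fin n) S :=
  (φ.restrictScalars R).toAlgHom.comp Algebra.TensorProduct.includeRight

theorem rep_apply (a : A) : rep φ a = φ (1 ⊗ₜ a) := rfl

/-- The representation of the tensor power. -/
noncomputable def repPow : (⨂[R] _ : Fin n, A) →ₐ[R] Matrix (Fin n → Fin n) (Fin n → Fin n) S :=
  PiTensorProduct.liftAlgHom ((kronMulti.restrictScalars R).compLinearMap fun _ => (rep φ).toLinearMap)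
    (by
      show kron (fun i => rep φ 1) = 1
      simp only [map_one]
      exact kron_one)
    (fun x y => by
      show kron (fun i => rep φ ((x * y) i)) = kron (fun i => rep φ (x i)) * kron (fun i => rep φ (y i))
      rw [← kron_mul]
      congr 1
      funext i
      exact map_mul _ _ _)

theorem repPow_tprod (a : Fin n → A) : repPow φ (PiTensorProduct.tprod R a) = kron fun i => rep φ (a i) := by
  show PiTensorProduct.lift _ (PiTensorProduct.tprod R a) = _
  rw [PiTensorProduct.lift.tprod]
  rfl

theorem repPow_single (i : Fin n) (a : A) :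
    repPow φ (PiTensorProduct.singleAlgHom (R := R) (A := fun _ : Fin n => A) i a) =
      kron (Pi.mulSingle i (rep φ a)) := by
  rw [PiTensorProduct.singleAlgHom_apply, repPow_tprod]
  congr 1
  funext j
  show rep φ ((Pi.mulSingle i a : Fin n → A) j) = _
  rw [Pi.apply_mulSingle (fun _ => rep φ) (fun _ => map_one _)]

/-- The base-changed representation of the tensor power. -/
noncomputable def repPowS : S ⊗[R] (⨂[R] _ : Fin n, A) →ₐ[S] Matrix (Fin n → Fin n) (Fin n → Fin n) S :=
  Algebra.TensorProduct.lift (Algebra.ofId S _) (repPow φ) fun c a => Algebra.commutes c _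

theorem repPowS_tmul (c : S) (t : ⨂[R] _ : Fin n, A) : repPowS φ (c ⊗ₜ t) = c • repPow φ t := by
  rw [repPowS, Algebra.TensorProduct.lift_tmul, Algebra.ofId_apply, Algebra.smul_def]

/-- The factor inclusions. -/
noncomputable def incl (i : Fin n) : S ⊗[R] A →ₐ[S] S ⊗[R] (⨂[R] _ : Fin n, A) :=
  Algebra.TensorProduct.map (AlgHom.id S S) (PiTensorProduct.singleAlgHom (R := R) (A := fun _ : Fin n => A) i)

theorem repPowS_incl (i : Fin n) (z : S ⊗[R] A) : repPowS φ (incl (R := R) (A := A) (S := S) i z) = kron (Pi.mulSingle i (φ z)) := by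
  induction z using TensorProduct.induction_on with
  | zero =>
    rw [map_zero, map_zero, map_zero]
    ext α β
    rw [Pi.mulSingle, kron_update]
    simp
  | add a b ha hb =>
    rw [map_add, map_add, ha, hb, map_add]
    ext α β
    simp only [Matrix.add_apply, Pi.mulSingle, kron_update]
    ring
  | tmul c a =>
    have h : φ (c ⊗ₜ a) = c • rep φ a := by
      rw [rep_apply, ← map_smul, TensorProduct.smul_tmul', smul_eq_mul, mul_one]
    show repPowS φ (c ⊗ₜ[R] PiTensorProduct.singleAlgHom (R := R) (A := fun _ : Fin n => A) i a) = _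
    rw [repPowS_tmul, repPow_single, h]
    ext α β
    simp only [Matrix.smul_apply, Pi.mulSingle, kron_update, smul_eq_mul]
    ring

theorem tprod_eq_prod_single (a : Fin n → A) :
    ((List.ofFn fun i => PiTensorProduct.singleAlgHom (R := R) (A := fun _ : Fin n => A) i (a i)).prod) =
      PiTensorProduct.tprod R a := by
  classical
  have h : (List.ofFn fun i => (Pi.mulSingle i (a i) : Fin n → A)).prod = a := by
    funext j
    rw [Pi.list_prod_apply, List.ofFn_eq_map, List.map_map]
    rw [List.prod_map_eq_pow_single j _ (fun i hi _ => by simp [Pi.mulSingle_eq_of_ne hi.symm]),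
      List.count_eq_one_of_mem (List.nodup_finRange n) (List.mem_finRange j)]
    simp
  conv_rhs => rw [← h]
  rw [show PiTensorProduct.tprod R (List.ofFn fun i => (Pi.mulSingle i (a i) : Fin n → A)).prod =
    PiTensorProduct.tprodMonoidHom R (List.ofFn fun i => (Pi.mulSingle i (a i) : Fin n → A)).prod from rfl,
    map_list_prod, List.map_ofFn]
  congr 2

theorem repPowS_bijective : Function.Bijective (repPowS φ) := by
  classical
  let Mm : MultilinearMap S (fun _ : Fin n => S ⊗[R] A) (S ⊗[R] (⨂[R] _ : Fin n, A)) :=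
    (MultilinearMap.mkPiAlgebraFin S n _).compLinearMap fun i => (incl (R := R) (A := A) (S := S) i).toLinearMap
  let G : Matrix (Fin n → Fin n) (Fin n → Fin n) S →ₗ[S] S ⊗[R] (⨂[R] _ : Fin n, A) :=
    ∑ α : Fin n → Fin n, ∑ β : Fin n → Fin n,
      (LinearMap.toSpanSingleton S _ (Mm fun i => φ.symm (Matrix.single (α i) (β i) 1))).comp
        (Matrix.entryLinearMap S S α β)
  have hG : ∀ M, G M = ∑ α : Fin n → Fin n, ∑ β : Fin n → Fin n,
      M α β • Mm fun i => φ.symm (Matrix.single (α i) (β i) 1) := fun M => by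
    simp [G, LinearMap.sum_apply]
  refine Function.bijective_iff_has_inverse.2 ⟨G, fun z => ?_, fun M => ?_⟩
  · have key : ∀ a : Fin n → A, G (kron fun i => rep φ (a i)) = (1 : S) ⊗ₜ PiTensorProduct.tprod R a := by
      intro a
      have h1 : ∀ i, (1 : S) ⊗ₜ[R] a i =
          ∑ p : Fin n × Fin n, rep φ (a i) p.1 p.2 • φ.symm (Matrix.single p.1 p.2 1) := by
        intro i
        apply φ.injective
        simp only [map_sum, map_smul, AlgEquiv.apply_symm_apply, Matrix.smul_single, smul_eq_mul, mul_one,
          Fintype.sum_prod_type]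
        exact Matrix.matrix_eq_sum_single _
      have h2 : Mm (fun i => (1 : S) ⊗ₜ[R] a i) = (1 : S) ⊗ₜ PiTensorProduct.tprod R a := by
        show (List.ofFn fun i => incl (R := R) (A := A) (S := S) i ((1 : S) ⊗ₜ a i)).prod = _
        rw [← tprod_eq_prod_single]
        rw [show (1 : S) ⊗ₜ[R] (List.ofFn fun i => PiTensorProduct.singleAlgHom (R := R) (A := fun _ : Fin n => A) i (a i)).prod =
          (Algebra.TensorProduct.includeRight : (⨂[R] _ : Fin n, A) →ₐ[R] S ⊗[R] (⨂[R] _ : Fin n, A))
            (List.ofFn fun i => PiTensorProduct.singleAlgHom (R := R) (A := fun _ : Fin n => A) i (a i)).prod from rfl,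
          map_list_prod, List.map_ofFn]
        congr 2
      rw [← h2, show (fun i => (1 : S) ⊗ₜ[R] a i) = fun i =>
        ∑ p : Fin n × Fin n, rep φ (a i) p.1 p.2 • φ.symm (Matrix.single p.1 p.2 1) from funext h1,
        MultilinearMap.map_sum, hG]
      simp only [MultilinearMap.map_smul_univ]
      rw [← Equiv.sum_comp (Equiv.arrowProdEquivProdArrow (Fin n) (fun _ => Fin n) (fun _ => Fin n)).symm,
        Fintype.sum_prod_type]
      rfl
    have hlin : G.restrictScalars R ∘ₗ (repPow φ).toLinearMap =
        ((Algebra.TensorProduct.includeRight : (⨂[R] _ : Fin n, A) →ₐ[R] S ⊗[R] (⨂[R] _ : Fin n, A))).toLinearMap :=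
      PiTensorProduct.ext (MultilinearMap.ext fun a => by
        simp only [LinearMap.compMultilinearMap_apply, LinearMap.comp_apply, LinearMap.restrictScalars_apply,
          AlgHom.toLinearMap_apply, repPow_tprod]
        exact key a)
    induction z using TensorProduct.induction_on with
    | zero => simp
    | add a b ha hb => rw [map_add, map_add, ha, hb]
    | tmul c t =>
      rw [repPowS_tmul, map_smul, show G (repPow φ t) = (1 : S) ⊗ₜ[R] t from LinearMap.congr_fun hlin t,
        TensorProduct.smul_tmul', smul_eq_mul, mul_one]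
  · rw [hG, map_sum]
    conv_rhs => rw [Matrix.matrix_eq_sum_single M]
    refine Finset.sum_congr rfl fun α _ => ?_
    rw [map_sum]
    refine Finset.sum_congr rfl fun β _ => ?_
    rw [map_smul, show Matrix.single α β (M α β) = M α β • Matrix.single α β (1 : S) by
      rw [Matrix.smul_single, smul_eq_mul, mul_one]]
    congr 1
    show repPowS φ (List.ofFn fun i => incl (R := R) (A := A) (S := S) i (φ.symm (Matrix.single (α i) (β i) 1))).prod = _
    rw [map_list_prod, List.map_ofFn]
    simp only [Function.comp_def, repPowS_incl, AlgEquiv.apply_symm_apply]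
    rw [show (List.ofFn fun i => kron (Pi.mulSingle i (Matrix.single (α i) (β i) (1 : S)))).prod =
      kronHom (List.ofFn fun i => (Pi.mulSingle i (Matrix.single (α i) (β i) (1 : S)) : Fin n → Matrix (Fin n) (Fin n) S)).prod by
        rw [map_list_prod, List.map_ofFn]; rfl]
    have h : (List.ofFn fun i => (Pi.mulSingle i (Matrix.single (α i) (β i) (1 : S)) : Fin n → Matrix (Fin n) (Fin n) S)).prod =
        fun i => Matrix.single (α i) (β i) (1 : S) := by
      funext j
      rw [Pi.list_prod_apply, List.ofFn_eq_map, List.map_map]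
      rw [List.prod_map_eq_pow_single j _ (fun i hi _ => by simp [Pi.mulSingle_eq_of_ne hi.symm]),
        List.count_eq_one_of_mem (List.nodup_finRange n) (List.mem_finRange j)]
      simp
    rw [h]
    ext γ δ
    show (∏ i, Matrix.single (α i) (β i) (1 : S) (γ i) (δ i)) = _
    simp only [Matrix.single_apply]
    by_cases hγ : α = γ ∧ β = δ
    · obtain ⟨rfl, rfl⟩ := hγ
      simp
    · rw [if_neg hγ]
      obtain ⟨i, hi⟩ : ∃ i, ¬(α i = γ i ∧ β i = δ i) := by
        by_contra! hall
        exact hγ ⟨funext fun i => (hall i).1, funext fun i => (hall i).2⟩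
      exact Finset.prod_eq_zero (Finset.mem_univ i) (if_neg hi)

theorem exists_swap_lift [IsAzumaya R A] [Module.FaithfullyFlat R S] (i k : Fin n) :
    ∃ x : ⨂[R] _ : Fin n, A, repPow φ x = permOp (Equiv.swap i k) := by
  classical
  rcases eq_or_ne i k with rfl | hik
  · exact ⟨1, by rw [map_one, Equiv.swap_self]; exact (permOp_one).symm⟩
  obtain ⟨t, ht⟩ := exists_redTrace φ
  obtain ⟨g', hg'⟩ := (IsAzumaya.bij (R := R) (A := A)).2 ((Algebra.linearMap R A).comp t)
  let op' : A ⊗[R] A ≃ₗ[R] A ⊗[R] Aᵐᵒᵖ := TensorProduct.congr (LinearEquiv.refl R A) (MulOpposite.opLinearEquiv R)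
  obtain ⟨g, rfl⟩ := op'.surjective g'
  let W : Matrix (Fin n) (Fin n) S → (A ⊗[R] A →ₗ[R] Matrix (Fin n) (Fin n) S) := fun x =>
    TensorProduct.lift (LinearMap.mk₂ R (fun a b => rep φ a * x * rep φ b)
      (fun a a' b => by rw [map_add, add_mul, add_mul]) (fun c a b => by rw [map_smul, smul_mul_assoc, smul_mul_assoc])
      (fun a b b' => by rw [map_add, mul_add]) (fun c a b => by rw [map_smul, mul_smul_comm]))
  have hWadd : ∀ x y z, W (x + y) z = W x z + W y z := fun x y z => by
    induction z using TensorProduct.induction_on with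
    | zero => simp
    | add a b ha hb => simp only [map_add, ha, hb]; abel
    | tmul a b => simp [W, mul_add, add_mul]
  have hWsmul : ∀ (c : S) x z, W (c • x) z = c • W x z := fun c x z => by
    induction z using TensorProduct.induction_on with
    | zero => simp
    | add a b ha hb => simp only [map_add, ha, hb, smul_add]
    | tmul a b => simp [W]
  have hW : ∀ x, W x g = x.trace • (1 : Matrix (Fin n) (Fin n) S) := by
    have h1 : ∀ c : A, W (rep φ c) g = (rep φ c).trace • 1 := fun c => by
      have h2 : ∀ z, W (rep φ c) z = rep φ (AlgHom.mulLeftRight R A (op' z) c) := fun z => by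
        induction z using TensorProduct.induction_on with
        | zero => simp
        | add a b ha hb => simp only [map_add, ha, hb, LinearMap.add_apply]
        | tmul a b => simp [W, op', AlgHom.mulLeftRight_apply]
      rw [h2, hg', LinearMap.comp_apply, Algebra.linearMap_apply, AlgHom.commutes, rep_apply, ← ht,
        Algebra.algebraMap_eq_smul_one (A := Matrix (Fin n) (Fin n) S), algebraMap_smul]
    intro x
    obtain ⟨z, rfl⟩ := φ.surjective x
    induction z using TensorProduct.induction_on with
    | zero =>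
      rw [map_zero, Matrix.trace_zero, zero_smul]
      have := hWsmul 0 0 g
      rwa [zero_smul, zero_smul] at this
    | add a b ha hb => rw [map_add, hWadd, ha, hb, Matrix.trace_add, add_smul]
    | tmul s c =>
      rw [show φ (s ⊗ₜ c) = s • rep φ c by rw [rep_apply, ← map_smul, TensorProduct.smul_tmul', smul_eq_mul, mul_one],
        hWsmul, h1, Matrix.trace_smul, smul_smul, smul_eq_mul]
  let h : A ⊗[R] A →ₐ[R] ⨂[R] _ : Fin n, A :=
    Algebra.TensorProduct.lift (PiTensorProduct.singleAlgHom (R := R) (A := fun _ : Fin n => A) i)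
      (PiTensorProduct.singleAlgHom (R := R) (A := fun _ : Fin n => A) k) fun a b => by
        rw [PiTensorProduct.singleAlgHom_apply, PiTensorProduct.singleAlgHom_apply]
        show Commute (PiTensorProduct.tprod R (Pi.mulSingle i a : Fin n → A)) (PiTensorProduct.tprod R (Pi.mulSingle k b : Fin n → A))
        exact (Pi.mulSingle_commute (f := fun _ : Fin n => A) hik a b).tprod
  refine ⟨h g, Matrix.ext fun α β => ?_⟩
  have hval : ∀ z, repPow φ (h z) α β =
      (∏ j ∈ (Finset.univ.erase i).erase k, (1 : Matrix (Fin n) (Fin n) S) (α j) (β j)) *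
        W (Matrix.single (β i) (α k) 1) z (α i) (β k) := fun z => by
    induction z using TensorProduct.induction_on with
    | zero => simp
    | add a b ha hb => simp only [map_add, Matrix.add_apply, ha, hb, mul_add]
    | tmul a b =>
      rw [Algebra.TensorProduct.lift_tmul, map_mul, repPow_single, repPow_single, ← kron_mul]
      simp only [kron, Matrix.of_apply]
      rw [← Finset.mul_prod_erase _ _ (Finset.mem_univ i),
        ← Finset.mul_prod_erase _ _ (Finset.mem_erase.2 ⟨hik.symm, Finset.mem_univ k⟩)]
      have hr : ∀ j ∈ (Finset.univ.erase i).erase k,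
          ((Pi.mulSingle i (rep φ a) * Pi.mulSingle k (rep φ b) : Fin n → Matrix (Fin n) (Fin n) S) j) (α j) (β j) =
            (1 : Matrix (Fin n) (Fin n) S) (α j) (β j) := fun j hj => by
        obtain ⟨hjk, hj'⟩ := Finset.mem_erase.1 hj
        rw [Pi.mul_apply, Pi.mulSingle_eq_of_ne (Finset.ne_of_mem_erase hj'), Pi.mulSingle_eq_of_ne hjk, one_mul]
      rw [Finset.prod_congr rfl hr]
      simp only [Pi.mul_apply, Pi.mulSingle_eq_same, Pi.mulSingle_eq_of_ne hik, Pi.mulSingle_eq_of_ne hik.symm,
        one_mul, mul_one]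
      have hsand : (rep φ a * Matrix.single (β i) (α k) (1 : S) * rep φ b : Matrix (Fin n) (Fin n) S) (α i) (β k) =
          rep φ a (α i) (β i) * rep φ b (α k) (β k) := by
        rw [Matrix.mul_assoc, Matrix.mul_apply]
        rw [Finset.sum_eq_single (β i) (fun q _ hq => by rw [Matrix.single_mul_apply_of_ne _ _ _ _ _ hq, mul_zero]) (by simp)]
        rw [Matrix.single_mul_apply_same, one_mul]
      simp only [W, TensorProduct.lift.tmul, LinearMap.mk₂_apply, hsand]
      ring
  rw [hval, hW]
  simp only [permOp, Matrix.of_apply, Matrix.smul_apply, smul_eq_mul]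
  rw [show (Matrix.single (β i) (α k) (1 : S)).trace = if α k = β i then 1 else 0 by
    by_cases hq : β i = α k
    · rw [hq, Matrix.trace_single_eq_same, if_pos rfl]
    · rw [Matrix.trace_single_eq_of_ne _ _ _ hq, if_neg (Ne.symm hq)]]
  by_cases hh : α = β ∘ ⇑(Equiv.swap i k)
  · rw [if_pos hh]
    have hi : α i = β k := by rw [hh]; simp
    have hk : α k = β i := by rw [hh]; simp
    rw [if_pos hk, hi, Matrix.one_apply_eq, mul_one, mul_one]
    refine Finset.prod_eq_one fun j hj => ?_
    obtain ⟨hjk, hj'⟩ := Finset.mem_erase.1 hj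
    rw [show α j = β j by rw [hh]; simp [Equiv.swap_apply_of_ne_of_ne (Finset.ne_of_mem_erase hj') hjk],
      Matrix.one_apply_eq]
  · rw [if_neg hh]
    obtain ⟨j, hj⟩ := Function.ne_iff.1 hh
    by_cases hji : j = i
    · subst hji
      rw [Matrix.one_apply_ne (by simpa using hj), mul_zero, mul_zero]
    by_cases hjk : j = k
    · subst hjk
      rw [if_neg (by simpa using hj), zero_mul, mul_zero]
    rw [Finset.prod_eq_zero (Finset.mem_erase.2 ⟨hjk, Finset.mem_erase.2 ⟨hji, Finset.mem_univ j⟩⟩)
      (show (1 : Matrix (Fin n) (Fin n) S) (α j) (β j) = 0 from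
        Matrix.one_apply_ne (by simpa [Equiv.swap_apply_of_ne_of_ne hji hjk] using hj)), zero_mul]

theorem exists_antisymmetrizer [IsAzumaya R A] [Module.FaithfullyFlat R S] :
    ∃ s : ⨂[R] _ : Fin n, A, repPow φ s = Matrix.vecMulVec wvec wvec := by
  classical
  have h : ∀ σ : Equiv.Perm (Fin n), ∃ x, repPow φ x = permOp σ := fun σ => by
    induction σ using Equiv.Perm.swap_induction_on with
    | one => exact ⟨1, by rw [map_one, permOp_one]⟩
    | swap_mul σ a b _ ih =>
      obtain ⟨x, hx⟩ := ih
      obtain ⟨y, hy⟩ := exists_swap_lift φ a b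
      exact ⟨x * y, by rw [map_mul, hx, hy, permOp_mul]⟩
  choose x hx using h
  refine ⟨∑ σ, (Equiv.Perm.sign σ : ℤ) • x σ, ?_⟩
  rw [← sum_sign_permOp, map_sum]
  exact Finset.sum_congr rfl fun σ _ => by rw [map_zsmul, hx, Int.cast_smul_eq_zsmul]

include φ in
theorem exists_end_equiv [IsAzumaya R A] [Module.FaithfullyFlat R S] :
    ∃ (E : Type u) (_ : AddCommGroup E) (_ : Module R E), Module.Finite R E ∧ Module.Projective R E ∧
      (∀ p : PrimeSpectrum R, Module.rankAtStalk (R := R) E p = n ^ n) ∧
      Nonempty ((⨂[R] _ : Fin n, A) ≃ₐ[R] Module.End R E) := by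
  classical
  obtain ⟨s, hs⟩ := exists_antisymmetrizer φ
  let E := LinearMap.range (LinearMap.mulRight R s)
  let l₀ : (⨂[R] _ : Fin n, A) → Module.End R E := fun t => (LinearMap.mulLeft R t).restrict fun y hy => by
    obtain ⟨y, rfl⟩ := hy
    exact ⟨t * y, mul_assoc t y s⟩
  let l : (⨂[R] _ : Fin n, A) →ₐ[R] Module.End R E :=
    { toFun := l₀
      map_one' := LinearMap.ext fun x => Subtype.ext (one_mul _)
      map_mul' := fun a b => LinearMap.ext fun x => Subtype.ext (mul_assoc a b _)
      map_zero' := LinearMap.ext fun x => Subtype.ext (zero_mul (x : ⨂[R] _ : Fin n, A))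
      map_add' := fun a b => LinearMap.ext fun x => Subtype.ext (add_mul a b _)
      commutes' := fun r => LinearMap.ext fun x => Subtype.ext (Algebra.smul_def r (x : ⨂[R] _ : Fin n, A)).symm }
  let w : (Fin n → Fin n) → S := wvec
  let e₀ : (Fin n → Fin n) → S := Pi.single id 1
  let j : S ⊗[R] E →ₗ[S] Matrix (Fin n → Fin n) (Fin n → Fin n) S :=
    (repPowS φ).toLinearMap ∘ₗ E.subtype.baseChange S
  have hjinj : Function.Injective j :=
    (repPowS_bijective φ).1.comp (Module.Flat.lTensor_preserves_injective_linearMap _ Subtype.val_injective)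
  let J : S ⊗[R] E →ₗ[S] ((Fin n → Fin n) → S) :=
    { toFun := fun z => j z *ᵥ e₀
      map_add' := fun a b => by rw [map_add, Matrix.add_mulVec]
      map_smul' := fun c a => by rw [map_smul, Matrix.smul_mulVec]; rfl }
  have hcol : ∀ u : (Fin n → Fin n) → S, Matrix.vecMulVec u w *ᵥ e₀ = u := fun u => by
    ext α
    simp [e₀, w, Matrix.mulVec_single_one, Matrix.vecMulVec_apply, wvec_id]
  have hj : ∀ z, j z = Matrix.vecMulVec (J z) w := fun z => by
    induction z using TensorProduct.induction_on with
    | zero => simp [Matrix.zero_vecMulVec]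
    | add a b ha hb => rw [map_add, map_add, ha, hb, Matrix.add_vecMulVec]
    | tmul c x =>
      obtain ⟨_, y, rfl⟩ := x
      have h1 : j (c ⊗ₜ[R] ⟨y * s, y, rfl⟩) = Matrix.vecMulVec ((c • repPow φ y) *ᵥ w) w := by
        show repPowS φ (c ⊗ₜ (y * s)) = _
        rw [repPowS_tmul, map_mul, hs, ← Matrix.smul_mul, Matrix.mul_vecMulVec]
      show j (c ⊗ₜ[R] ⟨y * s, y, rfl⟩) = Matrix.vecMulVec (j (c ⊗ₜ[R] ⟨y * s, y, rfl⟩) *ᵥ e₀) w
      rw [h1, hcol]
  have hJbij : Function.Bijective J := by
    refine ⟨fun a b hab => hjinj (by rw [hj a, hj b, hab]), fun u => ?_⟩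
    obtain ⟨y, hy⟩ := (repPowS_bijective φ).2 (Matrix.vecMulVec u e₀)
    let r : (⨂[R] _ : Fin n, A) →ₗ[R] E := (LinearMap.mulRight R s).codRestrict E fun y => ⟨y, rfl⟩
    refine ⟨r.baseChange S y, ?_⟩
    have hjr : ∀ y, j (r.baseChange S y) = repPowS φ y * Matrix.vecMulVec w w := fun y => by
      induction y using TensorProduct.induction_on with
      | zero => simp
      | add a b ha hb => rw [map_add, map_add, ha, hb, map_add, add_mul]
      | tmul c y =>
        show repPowS φ (c ⊗ₜ (y * s)) = _
        rw [repPowS_tmul, repPowS_tmul, map_mul, hs, Matrix.smul_mul]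
    show j _ *ᵥ e₀ = u
    rw [hjr, hy, Matrix.mul_vecMulVec, hcol]
    ext α
    simp [Matrix.mulVec, Matrix.vecMulVec_apply, dotProduct, e₀, w, Pi.single_apply, wvec_id]
  let Je : S ⊗[R] E ≃ₗ[S] ((Fin n → Fin n) → S) := LinearEquiv.ofBijective J hJbij
  haveI : Module.Finite S (S ⊗[R] E) := Module.Finite.equiv Je.symm
  haveI : Module.Projective S (S ⊗[R] E) := Module.Projective.of_equiv Je.symm
  obtain ⟨hfin, hproj⟩ := projective_of_baseChange (R := R) E S
  haveI := hfin
  haveI := hproj
  have hact : ∀ y z, J (endBC S E (l.toLinearMap.lTensor S y) z) = repPowS φ y *ᵥ J z := fun y z => by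
    induction y using TensorProduct.induction_on with
    | zero => simp
    | add a b ha hb => simp only [map_add, LinearMap.add_apply, ha, hb, Matrix.add_mulVec]
    | tmul c y =>
      induction z using TensorProduct.induction_on with
      | zero => simp
      | add a b ha hb => simp only [map_add, ha, hb, Matrix.mulVec_add]
      | tmul d x =>
        rw [LinearMap.lTensor_tmul, endBC_tmul, LinearMap.smul_apply, map_smul, LinearMap.baseChange_tmul,
          repPowS_tmul, Matrix.smul_mulVec]
        congr 1
        show repPowS φ (d ⊗ₜ (y * (x : ⨂[R] _ : Fin n, A))) *ᵥ e₀ = repPow φ y *ᵥ (repPowS φ (d ⊗ₜ (x : ⨂[R] _ : Fin n, A)) *ᵥ e₀)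
        rw [repPowS_tmul, repPowS_tmul, map_mul, Matrix.mulVec_mulVec, Matrix.mul_smul]
  have hl : Function.Bijective l.toLinearMap := by
    refine (Module.FaithfullyFlat.lTensor_bijective_iff_bijective (R := R) (M := S) (N := ⨂[R] _ : Fin n, A) (N' := Module.End R E) (f := l.toLinearMap)).1 ?_
    have hcomp : Function.Bijective (fun y => Je.conj (endBC S E (l.toLinearMap.lTensor S y))) := by
      have : (fun y => Je.conj (endBC S E (l.toLinearMap.lTensor S y))) = Matrix.toLin' ∘ repPowS φ := funext fun y => by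
        refine LinearMap.ext fun u => ?_
        obtain ⟨z, rfl⟩ := Je.surjective u
        rw [LinearEquiv.conj_apply_apply, LinearEquiv.symm_apply_apply, Function.comp_apply, Matrix.toLin'_apply]
        exact hact y z
      rw [this]
      exact Matrix.toLin'.bijective.comp (repPowS_bijective φ)
    have hb : Function.Bijective (fun z => Je.conj (endBC S E z)) := Je.conj.bijective.comp (endBC_bijective S E)
    exact (Function.Bijective.of_comp_iff' hb _).1 hcomp
  refine ⟨E, inferInstance, inferInstance, hfin, hproj, fun p => ?_, ⟨AlgEquiv.ofBijective l hl⟩⟩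
  obtain ⟨q, rfl⟩ := PrimeSpectrum.comap_surjective_of_faithfullyFlat (A := R) (B := S) p
  haveI : Nontrivial S := q.nontrivial
  rw [← Module.rankAtStalk_baseChange, Module.rankAtStalk_eq_of_equiv Je, Module.rankAtStalk_eq_finrank_of_free]
  simp

end Groth.Agent.Azu.TPow
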